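import Mathlib
import Cfsg.Agent.S1378

/-!
# B&G Section 14 (helper2), part A: the cosets `x R(x)` are pairwise disjoint (S1433)

Conditional on `Hyp1375 G` (= the frozen statement of S1375, B&G Theorem 14.4, as a `Prop`).
-/

set_option autoImplicit false
set_option linter.unusedVariables false
set_option linter.unusedSectionVars false
set_option linter.style.haveILetI false
set_option maxHeartbeats 1000000

open scoped commutatorElement Pointwise

namespace Cfsg.Agent.H2.BG14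

open Cfsg Cfsg.Agent.Lib.Helper8.BGTen Cfsg.Agent.H2.BG11

universe u

variable {G : Type u} [Group G] [Finite G]

/-- the statement of S1375 (B&G Theorem 14.4), for all `M`, `x` -/
def Hyp1375 (G : Type u) [Group G] : Prop :=
  ∀ (M : Subgroup G), IsCoatom M → ∀ x : G, x ∈ Cfsg.sigmaCore M → x ≠ 1 →
    ¬ Subgroup.centralizer ({x} : Set G) ≤ M →
    ∃ N : Subgroup G, (IsCoatom N ∧ Subgroup.centralizer ({x} : Set G) ≤ N) ∧ (∀ L : Subgroup G, IsCoatom L → Subgroup.centralizer ({x} : Set G) ≤ L → L = N) ∧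
        Cfsg.sigmaCore N = Cfsg.fittingHallOf N ∧
        Subgroup.centralizer ({x} : Set G) ≤ Subgroup.normalizer ((Cfsg.sigmaCore N ⊓ Subgroup.centralizer ({x} : Set G) : Subgroup G) : Set G) ∧
        Cfsg.IsComplIn (M ⊓ Subgroup.centralizer ({x} : Set G)) (Cfsg.sigmaCore N ⊓ Subgroup.centralizer ({x} : Set G)) (Subgroup.centralizer ({x} : Set G)) ∧
        Cfsg.IsComplIn (M ⊓ N) (Cfsg.sigmaCore N) N ∧
        ∀ K' U' : Subgroup G, Cfsg.IsSigmaDecomposition N K' U' → U' ≠ ⊥ ∧ x ∈ Cfsg.sigmaA N U' ∧ x ∉ Cfsg.sigmaCore N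

/-- `n`-th powers are injective on elements of order prime to `n` -/
theorem eq_of_pow_eq {x y : G} {n : ℕ} (hx : n.Coprime (orderOf x)) (hy : n.Coprime (orderOf y))
    (h : x ^ n = y ^ n) : x = y := by
  have hxp : 0 < orderOf x := orderOf_pos x
  have hyp : 0 < orderOf y := orderOf_pos y
  rcases Nat.lt_or_ge 1 (orderOf x * orderOf y) with hk | hk
  · obtain ⟨m, -, hm⟩ := Nat.exists_mul_mod_eq_one_of_coprime (hx.mul_right hy) hk
    have hmod : n * m ≡ 1 [MOD orderOf x * orderOf y] := by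
      unfold Nat.ModEq
      rw [hm, Nat.mod_eq_of_lt hk]
    have h1 : x ^ (n * m) = x ^ 1 :=
      pow_eq_pow_iff_modEq.mpr (Nat.ModEq.of_dvd (Dvd.intro _ rfl) hmod)
    have h2 : y ^ (n * m) = y ^ 1 :=
      pow_eq_pow_iff_modEq.mpr (Nat.ModEq.of_dvd (Dvd.intro_left _ rfl) hmod)
    rw [pow_one, pow_mul] at h1 h2
    rw [← h1, ← h2, h]
  · have h1 : orderOf x * orderOf y = 1 := by
      have : 0 < orderOf x * orderOf y := Nat.mul_pos hxp hyp
      omega
    have hx1 : orderOf x = 1 := Nat.eq_one_of_mul_eq_one_right h1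
    have hy1 : orderOf y = 1 := Nat.eq_one_of_mul_eq_one_left h1
    rw [orderOf_eq_one_iff] at hx1 hy1
    rw [hx1, hy1]

/-- the data attached to a nontrivial `R(x)` -/
theorem supportR_spec (h75 : Hyp1375 G) {M : Subgroup G} (hM : IsCoatom M) {x : G}
    (hx : x ∈ Cfsg.sigmaCore M) (hx1 : x ≠ 1) {r : G} (hr : r ∈ Cfsg.supportR M x) (hr1 : r ≠ 1) :
    ∃ N : Subgroup G, IsCoatom N ∧ Subgroup.centralizer ({x} : Set G) ≤ N ∧
      (∀ L : Subgroup G, IsCoatom L → Subgroup.centralizer ({x} : Set G) ≤ L → L = N) ∧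
      Cfsg.supportR M x = Cfsg.sigmaCore N ⊓ Subgroup.centralizer ({x} : Set G) ∧
      (M ⊓ N) ⊓ Cfsg.sigmaCore N = ⊥ := by
  by_cases h : ¬ Subgroup.centralizer ({x} : Set G) ≤ M ∧
      ∃! L : Subgroup G, IsCoatom L ∧ Subgroup.centralizer ({x} : Set G) ≤ L
  · obtain ⟨N, ⟨hN, hxN⟩, huniq, hF, -, -, hc, -⟩ := h75 M hM x hx hx1 h.1
    refine ⟨N, hN, hxN, huniq, ?_, hc.2.2.1⟩
    have hch := Classical.choose_spec h.2.exists
    have e : Classical.choose h.2.exists = N := huniq _ hch.1 hch.2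
    unfold Cfsg.supportR
    rw [dif_pos h, e, hF]
  · exfalso
    unfold Cfsg.supportR at hr
    rw [dif_neg h, Subgroup.mem_bot] at hr
    exact hr1 hr

/-- in the situation of `supportR_spec`, `σ(M)` and `σ(N)` are disjoint -/
theorem sigma_disjoint_of_spec (hG : Cfsg.IsMinSimpleOddOrder G) {M N : Subgroup G}
    (hM : IsCoatom M) (hN : IsCoatom N) {x : G} (hx : x ∈ Cfsg.sigmaCore M) (hx1 : x ≠ 1)
    (hxN : x ∈ N) (hc : (M ⊓ N) ⊓ Cfsg.sigmaCore N = ⊥) :
    ∀ k : ℕ, k ∈ Cfsg.sigma M → k ∉ Cfsg.sigma N := by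
  intro k hkM hkN
  obtain ⟨g, hg⟩ := (Cfsg.Agent.S1378.result hG).2 M N hM hN ⟨k, hkM, hkN⟩
  have hσ : Cfsg.sigma N = Cfsg.sigma M := by
    rw [hg]
    exact sigma_cj g M
  have h1 : Subgroup.zpowers x ≤ Cfsg.sigmaCore N := by
    apply Cfsg.Agent.Lib.helper3.BG12.le_sigmaCore_of_sigma_group hG hN
    · rw [Subgroup.zpowers_le]
      exact hxN
    · intro p hp hpd
      rw [hσ]
      apply mem_sigma_of_dvd_sigmaCore hG hM hp
      rw [Nat.card_zpowers] at hpd
      exact dvd_trans hpd (Subgroup.orderOf_dvd_natCard _ hx)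
  have h2 : x ∈ (M ⊓ N) ⊓ Cfsg.sigmaCore N :=
    ⟨⟨sigmaCore_le M hx, hxN⟩, h1 (Subgroup.mem_zpowers x)⟩
  rw [hc, Subgroup.mem_bot] at h2
  exact hx1 h2

/-- basic facts on an element of `R(x)`: it commutes with `x` and is a `σ(M)'`-element -/
theorem supportR_facts (hG : Cfsg.IsMinSimpleOddOrder G) (h75 : Hyp1375 G) {M : Subgroup G}
    (hM : IsCoatom M) {x : G} (hx : x ∈ Cfsg.sigmaCore M) (hx1 : x ≠ 1) {r : G}
    (hr : r ∈ Cfsg.supportR M x) :
    Commute x r ∧ ∀ k : ℕ, k.Prime → k ∣ orderOf r → k ∉ Cfsg.sigma M := by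
  by_cases hr1 : r = 1
  · subst hr1
    refine ⟨Commute.one_right x, ?_⟩
    intro k hk hkd
    rw [orderOf_one] at hkd
    exact absurd (Nat.dvd_one.mp hkd) hk.one_lt.ne'
  · obtain ⟨N, hN, hxN, huniq, hR, hc⟩ := supportR_spec h75 hM hx hx1 hr hr1
    rw [hR] at hr
    obtain ⟨hrσ, hrC⟩ := Subgroup.mem_inf.mp hr
    refine ⟨?_, ?_⟩
    · exact (Subgroup.mem_centralizer_singleton_iff.mp hrC).symm
    · intro k hk hkd hkM
      have hxN' : x ∈ N := hxN (Subgroup.mem_centralizer_singleton_iff.mpr rfl)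
      apply sigma_disjoint_of_spec hG hM hN hx hx1 hxN' hc k hkM
      apply mem_sigma_of_dvd_sigmaCore hG hN hk
      exact dvd_trans hkd (Subgroup.orderOf_dvd_natCard _ hrσ)

theorem coprime_orderOf_of_sigma {M : Subgroup G} (hG : Cfsg.IsMinSimpleOddOrder G)
    (hM : IsCoatom M) {x r : G} (hx : x ∈ Cfsg.sigmaCore M)
    (hr : ∀ k : ℕ, k.Prime → k ∣ orderOf r → k ∉ Cfsg.sigma M) :
    (orderOf r).Coprime (orderOf x) := by
  apply Nat.coprime_of_dvd
  intro k hk hkr hkx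
  apply hr k hk hkr
  apply mem_sigma_of_dvd_sigmaCore hG hM hk
  exact dvd_trans hkx (Subgroup.orderOf_dvd_natCard _ hx)

/-- from `x r = y s`: if `y` and `r` have order prime to that of `x`, then `x` is a power of `s` -/
theorem mem_of_mul_eq {H : Subgroup G} {x r y s : G} (hxr : Commute x r) (hys : Commute y s)
    (h : x * r = y * s) (hrx : (orderOf r).Coprime (orderOf x))
    (hyx : (orderOf y).Coprime (orderOf x)) (hs : s ∈ H) : x ∈ H := by
  have h1 : (x * r) ^ (orderOf r * orderOf y) = x ^ (orderOf r * orderOf y) := by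
    rw [hxr.mul_pow, pow_mul r, pow_orderOf_eq_one, one_pow, mul_one]
  have h2 : (y * s) ^ (orderOf r * orderOf y) = s ^ (orderOf r * orderOf y) := by
    rw [hys.mul_pow, mul_comm (orderOf r), pow_mul y, pow_orderOf_eq_one, one_pow, one_mul]
  have h3 : x ^ (orderOf r * orderOf y) = s ^ (orderOf r * orderOf y) := by
    rw [← h1, ← h2, h]
  obtain ⟨m, hm⟩ := exists_pow_eq_self_of_coprime (x := x) (n := orderOf r * orderOf y)
    (Nat.Coprime.mul_left hrx hyx)
  rw [← hm, h3]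
  exact Subgroup.pow_mem _ (Subgroup.pow_mem _ hs _) _

/-- **S1433** from S1375 and the `σ`-partition -/
theorem s1433_of (hG : Cfsg.IsMinSimpleOddOrder G) (h75 : Hyp1375 G)
    (M N : Subgroup G) (hM : IsCoatom M) (hN : IsCoatom N) (x y : G)
    (hx : x ∈ Cfsg.sigmaCore M) (hy : y ∈ Cfsg.sigmaCore N)
    (hx1 : x ≠ 1) (hy1 : y ≠ 1) (hxy : x ≠ y) :
    ∀ r ∈ Cfsg.supportR M x, ∀ s ∈ Cfsg.supportR N y, x * r ≠ y * s := by
  intro r hr s hs heq
  obtain ⟨hxr, hrσ⟩ := supportR_facts hG h75 hM hx hx1 hr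
  obtain ⟨hys, hsσ⟩ := supportR_facts hG h75 hN hy hy1 hs
  have hrx := coprime_orderOf_of_sigma hG hM hx hrσ
  have hsy := coprime_orderOf_of_sigma hG hN hy hsσ
  by_cases hconj : ∃ g : G, N = M.map (MulAut.conj g).toMonoidHom
  · -- `σ(N) = σ(M)`: compare the `σ(M)`-parts
    obtain ⟨g, hg⟩ := hconj
    have hσ : Cfsg.sigma N = Cfsg.sigma M := by
      rw [hg]
      exact sigma_cj g M
    rw [hσ] at hsσ
    have hsx : (orderOf s).Coprime (orderOf x) := coprime_orderOf_of_sigma hG hM hx hsσ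
    have hry : (orderOf r).Coprime (orderOf y) := by
      apply Nat.coprime_of_dvd
      intro k hk hkr hky
      apply hrσ k hk hkr
      rw [← hσ]
      apply mem_sigma_of_dvd_sigmaCore hG hN hk
      exact dvd_trans hky (Subgroup.orderOf_dvd_natCard _ hy)
    apply hxy
    apply eq_of_pow_eq (n := orderOf r * orderOf s) (Nat.Coprime.mul_left hrx hsx)
      (Nat.Coprime.mul_left hry hsy)
    have h1 : (x * r) ^ (orderOf r * orderOf s) = x ^ (orderOf r * orderOf s) := by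
      rw [hxr.mul_pow, pow_mul r, pow_orderOf_eq_one, one_pow, mul_one]
    have h2 : (y * s) ^ (orderOf r * orderOf s) = y ^ (orderOf r * orderOf s) := by
      rw [hys.mul_pow, mul_comm (orderOf r), pow_mul s, pow_orderOf_eq_one, one_pow, mul_one]
    rw [← h1, ← h2, heq]
  · -- `σ(M) ∩ σ(N) = ∅`
    have hdisj : ∀ k : ℕ, k ∈ Cfsg.sigma M → k ∉ Cfsg.sigma N := by
      intro k hkM hkN
      exact hconj ((Cfsg.Agent.S1378.result hG).2 M N hM hN ⟨k, hkM, hkN⟩)
    have hyx : (orderOf y).Coprime (orderOf x) := by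
      apply coprime_orderOf_of_sigma hG hM hx
      intro k hk hky hkM
      apply hdisj k hkM
      apply mem_sigma_of_dvd_sigmaCore hG hN hk
      exact dvd_trans hky (Subgroup.orderOf_dvd_natCard _ hy)
    have hxR : x ∈ Cfsg.supportR N y := mem_of_mul_eq hxr hys heq hrx hyx hs
    have hyR : y ∈ Cfsg.supportR M x := mem_of_mul_eq hys hxr heq.symm hsy hyx.symm hr
    obtain ⟨Nx, hNx, hxNx, huNx, hRx, hcx⟩ := supportR_spec h75 hM hx hx1 hyR hy1
    obtain ⟨Ny, hNy, hyNy, huNy, hRy, hcy⟩ := supportR_spec h75 hN hy hy1 hxR hx1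
    rw [hRx] at hyR
    rw [hRy] at hxR
    obtain ⟨hyσ, hyC⟩ := Subgroup.mem_inf.mp hyR
    obtain ⟨hxσ, hxC⟩ := Subgroup.mem_inf.mp hxR
    have hxNx' : x ∈ Nx := hxNx (Subgroup.mem_centralizer_singleton_iff.mpr rfl)
    have hnot : ¬ Subgroup.centralizer ({y} : Set G) ≤ Nx := by
      intro hle
      have e : Nx = Ny := huNy Nx hNx hle
      have h2 : x ∈ (M ⊓ Nx) ⊓ Cfsg.sigmaCore Nx := by
        refine ⟨⟨sigmaCore_le M hx, hxNx'⟩, ?_⟩
        rw [e]
        exact hxσ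
      rw [hcx, Subgroup.mem_bot] at h2
      exact hx1 h2
    obtain ⟨N', ⟨hN', hyN'⟩, -, -, -, hc, -, -⟩ := h75 Nx hNx y hyσ hy1 hnot
    have e : N' = Ny := huNy N' hN' hyN'
    rw [e] at hc
    have h3 : x ∈ (Nx ⊓ Subgroup.centralizer ({y} : Set G)) ⊓
        (Cfsg.sigmaCore Ny ⊓ Subgroup.centralizer ({y} : Set G)) :=
      ⟨⟨hxNx', hxC⟩, ⟨hxσ, hxC⟩⟩
    rw [hc.2.2.1, Subgroup.mem_bot] at h3
    exact hx1 h3

end Cfsg.Agent.H2.BG14
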