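import Mathlib
import Cfsg.Agent.H2.BG14.A
import Cfsg.Agent.S1375
import Cfsg.Agent.S1404

/-!
# B&G Section 14 (helper2), part B: structure of `R(x)`, equivariance, transitivity
-/

set_option autoImplicit false
set_option linter.unusedVariables false
set_option linter.unusedSectionVars false
set_option linter.style.haveILetI false
set_option maxHeartbeats 1000000

open scoped commutatorElement Pointwise

namespace Cfsg.Agent.H2.BG14

open Cfsg Cfsg.Agent.Lib.Helper8.BGTen Cfsg.Agent.H2.BG11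

universe u

variable {G : Type u} [Group G] [Finite G]

theorem hyp1375 (hG : Cfsg.IsMinSimpleOddOrder G) : Hyp1375 G :=
  fun M hM x hx hx1 hxM => Cfsg.Agent.S1375.result hG M hM x hx hx1 hxM

theorem supportR_eq_bot_of_le {M : Subgroup G} {x : G}
    (h : Subgroup.centralizer ({x} : Set G) ≤ M) : Cfsg.supportR M x = ⊥ := by
  unfold Cfsg.supportR
  rw [dif_neg]
  intro h'
  exact h'.1 h

/-- the structure of `R(x)` when `C_G(x) ⊄ M` -/
theorem supportR_eq_of_not_le (hG : Cfsg.IsMinSimpleOddOrder G) {M : Subgroup G} (hM : IsCoatom M)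
    {x : G} (hx : x ∈ Cfsg.sigmaCore M) (hx1 : x ≠ 1)
    (hxM : ¬ Subgroup.centralizer ({x} : Set G) ≤ M) :
    ∃ N : Subgroup G, IsCoatom N ∧ Subgroup.centralizer ({x} : Set G) ≤ N ∧
      (∀ L : Subgroup G, IsCoatom L → Subgroup.centralizer ({x} : Set G) ≤ L → L = N) ∧
      Cfsg.supportR M x = Cfsg.sigmaCore N ⊓ Subgroup.centralizer ({x} : Set G) ∧
      Subgroup.centralizer ({x} : Set G) ≤ Subgroup.normalizer
        ((Cfsg.sigmaCore N ⊓ Subgroup.centralizer ({x} : Set G) : Subgroup G) : Set G) ∧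
      Cfsg.IsComplIn (M ⊓ Subgroup.centralizer ({x} : Set G))
        (Cfsg.sigmaCore N ⊓ Subgroup.centralizer ({x} : Set G)) (Subgroup.centralizer ({x} : Set G)) := by
  obtain ⟨N, ⟨hN, hxN⟩, huniq, hF, hn, hc, -, -⟩ := hyp1375 hG M hM x hx hx1 hxM
  refine ⟨N, hN, hxN, huniq, ?_, hn, hc⟩
  have h : ¬ Subgroup.centralizer ({x} : Set G) ≤ M ∧
      ∃! L : Subgroup G, IsCoatom L ∧ Subgroup.centralizer ({x} : Set G) ≤ L :=
    ⟨hxM, N, ⟨hN, hxN⟩, fun L hL => huniq L hL.1 hL.2⟩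
  have hch := Classical.choose_spec h.2.exists
  have e : Classical.choose h.2.exists = N := huniq _ hch.1 hch.2
  unfold Cfsg.supportR
  rw [dif_pos h, e, hF]

/-- `R(x)` is normal in `C_G(x)` and complements `C_M(x)` -/
theorem supportR_compl (hG : Cfsg.IsMinSimpleOddOrder G) {M : Subgroup G} (hM : IsCoatom M)
    {x : G} (hx : x ∈ Cfsg.sigmaCore M) (hx1 : x ≠ 1) :
    Subgroup.centralizer ({x} : Set G) ≤ Subgroup.normalizer (Cfsg.supportR M x : Set G) ∧
    Cfsg.IsComplIn (M ⊓ Subgroup.centralizer ({x} : Set G)) (Cfsg.supportR M x)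
      (Subgroup.centralizer ({x} : Set G)) := by
  by_cases hxM : Subgroup.centralizer ({x} : Set G) ≤ M
  · rw [supportR_eq_bot_of_le hxM]
    refine ⟨?_, inf_le_right, bot_le, inf_bot_eq _, ?_⟩
    · intro c hc
      rw [Subgroup.mem_normalizer_iff]
      intro h
      simp [Subgroup.mem_bot]
    · intro m hm
      exact ⟨m, ⟨hxM hm, hm⟩, 1, Subgroup.one_mem _, (mul_one m).symm⟩
  · obtain ⟨N, hN, hxN, huniq, hR, hn, hc⟩ := supportR_eq_of_not_le hG hM hx hx1 hxM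
    rw [hR]
    exact ⟨hn, hc⟩

theorem centralizer_conj (y a : G) :
    Subgroup.centralizer ({y * a * y⁻¹} : Set G) = cj y (Subgroup.centralizer ({a} : Set G)) := by
  ext z
  rw [mem_cj, Subgroup.mem_centralizer_singleton_iff, Subgroup.mem_centralizer_singleton_iff]
  constructor
  · intro h
    have e : y⁻¹ * z * y * a = y⁻¹ * (z * (y * a * y⁻¹)) * y := by group
    rw [e, h]
    group
  · intro h
    have e : z * (y * a * y⁻¹) = y * (y⁻¹ * z * y * a) * y⁻¹ := by group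
    rw [e, h]
    group

theorem cj_inf (y : G) (A B : Subgroup G) : cj y (A ⊓ B) = cj y A ⊓ cj y B :=
  Subgroup.map_inf A B _ (MulAut.conj y).injective

theorem cj_le_cj_iff {y : G} {A B : Subgroup G} : cj y A ≤ cj y B ↔ A ≤ B := by
  constructor
  · intro h
    have := cj_mono y⁻¹ h
    rwa [cj_inv_cj, cj_inv_cj] at this
  · exact cj_mono y

/-- conjugation-equivariance of `R(x)` -/
theorem supportR_cj (hG : Cfsg.IsMinSimpleOddOrder G) {M : Subgroup G} (hM : IsCoatom M)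
    {a : G} (ha : a ∈ Cfsg.sigmaCore M) (ha1 : a ≠ 1) (y : G) :
    Cfsg.supportR (cj y M) (y * a * y⁻¹) = cj y (Cfsg.supportR M a) := by
  have hM' : IsCoatom (cj y M) := isCoatom_cj hM y
  have ha' : y * a * y⁻¹ ∈ Cfsg.sigmaCore (cj y M) := by
    rw [sigmaCore_cj hG hM y]
    exact conj_mem_cj ha
  have ha1' : y * a * y⁻¹ ≠ 1 := by
    intro h
    apply ha1
    have : a = y⁻¹ * (y * a * y⁻¹) * y := by group
    rw [this, h]
    group
  by_cases hxM : Subgroup.centralizer ({a} : Set G) ≤ M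
  · have h' : Subgroup.centralizer ({y * a * y⁻¹} : Set G) ≤ cj y M := by
      rw [centralizer_conj]
      exact cj_mono y hxM
    rw [supportR_eq_bot_of_le hxM, supportR_eq_bot_of_le h']
    exact (Subgroup.map_bot _).symm
  · have h' : ¬ Subgroup.centralizer ({y * a * y⁻¹} : Set G) ≤ cj y M := by
      rw [centralizer_conj, cj_le_cj_iff]
      exact hxM
    obtain ⟨N, hN, hxN, huniq, hR, -, -⟩ := supportR_eq_of_not_le hG hM ha ha1 hxM
    obtain ⟨N', hN', hxN', huniq', hR', -, -⟩ := supportR_eq_of_not_le hG hM' ha' ha1' h'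
    have e : cj y N = N' := by
      apply huniq' _ (isCoatom_cj hN y)
      rw [centralizer_conj]
      exact cj_mono y hxN
    rw [hR, hR', ← e, sigmaCore_cj hG hN y, centralizer_conj, cj_inf]

/-- **transitivity**: if `a ∈ M_σ^#` and `w⁻¹ a w ∈ M` then `w ∈ C_G(a) M` -/
theorem exists_mul_of_conj_mem (hG : Cfsg.IsMinSimpleOddOrder G) {M : Subgroup G} (hM : IsCoatom M)
    {a : G} (ha : a ∈ Cfsg.sigmaCore M) (ha1 : a ≠ 1) {w : G} (hw : w⁻¹ * a * w ∈ M) :
    ∃ κ ∈ Subgroup.centralizer ({a} : Set G), ∃ m ∈ M, w = κ * m := by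
  -- a power `b` of `a` of prime order `p`
  have hord : orderOf a ≠ 1 := by
    intro h
    exact ha1 (orderOf_eq_one_iff.mp h)
  obtain ⟨p, hp, hpd⟩ := Nat.exists_prime_and_dvd hord
  haveI : Fact p.Prime := ⟨hp⟩
  obtain ⟨k, hk⟩ := hpd
  set b : G := a ^ k with hb
  have hbo : orderOf b = p := by
    have h1 : orderOf (a ^ k) = orderOf a / Nat.gcd (orderOf a) k := orderOf_pow a
    have hk0 : 0 < k := by
      rcases Nat.eq_zero_or_pos k with h0 | h0
      · rw [h0, mul_zero] at hk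
        exact absurd hk (orderOf_pos a).ne'
      · exact h0
    have h2 : Nat.gcd (orderOf a) k = k := Nat.gcd_eq_right ⟨p, by rw [hk, mul_comm]⟩
    rw [hb, h1, h2, hk]
    exact Nat.mul_div_cancel p hk0
  have hbσ : b ∈ Cfsg.sigmaCore M := Subgroup.pow_mem _ ha k
  have hb1 : b ≠ 1 := by
    intro h
    rw [h, orderOf_one] at hbo
    exact hp.one_lt.ne hbo
  have hab : Commute a b := (Commute.refl a).pow_right k
  have hpσ : p ∈ Cfsg.sigma M := by
    apply mem_sigma_of_dvd_sigmaCore hG hM hp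
    rw [← hbo]
    exact Subgroup.orderOf_dvd_natCard _ hbσ
  -- `S1404` for `X = ⟨b⟩`
  have hXp : IsPGroup p ↥(Subgroup.zpowers b) := by
    apply IsPGroup.of_card (n := 1)
    rw [Nat.card_zpowers, hbo, pow_one]
  have hX1 : Subgroup.zpowers b ≠ ⊥ := by
    intro h
    exact hb1 (Subgroup.zpowers_eq_bot.mp h)
  have hXM : Subgroup.zpowers b ≤ M := by
    rw [Subgroup.zpowers_le]
    exact sigmaCore_le M hbσ
  have h04 := (Cfsg.Agent.S1404.result hG M hM p hpσ (Subgroup.zpowers b) hXp hX1 hXM).1 w⁻¹ (by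
    rw [Subgroup.map_le_iff_le_comap, Subgroup.zpowers_le]
    change (MulAut.conj w⁻¹) b ∈ M
    rw [MulAut.conj_apply, inv_inv]
    have e : w⁻¹ * b * w = (w⁻¹ * a * w) ^ k := by
      have h1 := conj_pow (a := w⁻¹) (b := a) (i := k)
      rw [inv_inv] at h1
      rw [hb, h1]
    rw [e]
    exact Subgroup.pow_mem _ hw k)
  obtain ⟨m₀, hm₀, c₀, hc₀, hwe⟩ := h04
  -- `w = c₁ m₁`, `c₁ ∈ C(b)`, `m₁ ∈ M`
  have hc₀b : c₀ ∈ Subgroup.centralizer ({b} : Set G) := by
    rw [Subgroup.mem_centralizer_singleton_iff]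
    exact (Subgroup.mem_centralizer_iff.mp hc₀ b (Subgroup.mem_zpowers b)).symm
  have hw' : w = c₀⁻¹ * m₀⁻¹ := by
    have : w = (w⁻¹)⁻¹ := (inv_inv w).symm
    rw [this, hwe]
    group
  set c₁ : G := c₀⁻¹ with hc₁
  have hc₁b : c₁ ∈ Subgroup.centralizer ({b} : Set G) := Subgroup.inv_mem _ hc₀b
  have hc₁a : c₁⁻¹ * a * c₁ ∈ M := by
    have e : c₁⁻¹ * a * c₁ = m₀⁻¹ * (w⁻¹ * a * w) * m₀ := by
      rw [hw']
      group
    rw [e]
    exact Subgroup.mul_mem _ (Subgroup.mul_mem _ (Subgroup.inv_mem _ hm₀) hw) hm₀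
  have haCb : a ∈ Subgroup.centralizer ({b} : Set G) := by
    rw [Subgroup.mem_centralizer_singleton_iff]
    exact hab.eq
  by_cases hbM : Subgroup.centralizer ({b} : Set G) ≤ M
  · exact ⟨1, Subgroup.one_mem _, c₁ * m₀⁻¹,
      Subgroup.mul_mem _ (hbM hc₁b) (Subgroup.inv_mem _ hm₀), by rw [one_mul, hw']⟩
  · obtain ⟨N, hN, hbN, huniq, hR, hn, hc⟩ := supportR_eq_of_not_le hG hM hbσ hb1 hbM
    obtain ⟨m₂, hm₂, f, hf, hcf⟩ := hc.2.2.2 c₁⁻¹ (Subgroup.inv_mem _ hc₁b)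
    have hc₁e : c₁ = f⁻¹ * m₂⁻¹ := by
      have : c₁ = (c₁⁻¹)⁻¹ := (inv_inv c₁).symm
      rw [this, hcf]
      group
    have hfC : f ∈ Subgroup.centralizer ({b} : Set G) := hf.2
    have hfa : f * a * f⁻¹ ∈ M := by
      have e : f * a * f⁻¹ = m₂⁻¹ * (c₁⁻¹ * a * c₁) * m₂ := by
        rw [hc₁e]
        group
      rw [e]
      exact Subgroup.mul_mem _ (Subgroup.mul_mem _ (Subgroup.inv_mem _ hm₂.1) hc₁a) hm₂.1
    -- `(f a f⁻¹) a⁻¹` lies in `C_M(b) ∩ F = 1`
    have hz : f * a * f⁻¹ * a⁻¹ ∈ (M ⊓ Subgroup.centralizer ({b} : Set G)) ⊓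
        (Cfsg.sigmaCore N ⊓ Subgroup.centralizer ({b} : Set G)) := by
      refine ⟨⟨?_, ?_⟩, ?_⟩
      · exact Subgroup.mul_mem _ hfa (Subgroup.inv_mem _ (sigmaCore_le M ha))
      · exact Subgroup.mul_mem _ (Subgroup.mul_mem _ (Subgroup.mul_mem _ hfC haCb)
          (Subgroup.inv_mem _ hfC)) (Subgroup.inv_mem _ haCb)
      · have h1 : a * f⁻¹ * a⁻¹ ∈ Cfsg.sigmaCore N ⊓ Subgroup.centralizer ({b} : Set G) :=
          (Subgroup.mem_normalizer_iff.mp (hn haCb) f⁻¹).mp (Subgroup.inv_mem _ hf)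
        have e : f * a * f⁻¹ * a⁻¹ = f * (a * f⁻¹ * a⁻¹) := by group
        rw [e]
        exact Subgroup.mul_mem _ hf h1
    rw [hc.2.2.1, Subgroup.mem_bot] at hz
    have hfa' : f⁻¹ ∈ Subgroup.centralizer ({a} : Set G) := by
      apply Subgroup.inv_mem
      rw [Subgroup.mem_centralizer_singleton_iff]
      have : f * a = f * a * f⁻¹ * a⁻¹ * (a * f) := by group
      rw [this, hz, one_mul]
    refine ⟨f⁻¹, hfa', m₂⁻¹ * m₀⁻¹,
      Subgroup.mul_mem _ (Subgroup.inv_mem _ hm₂.1) (Subgroup.inv_mem _ hm₀), ?_⟩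
    rw [hw', hc₁e]
    group

end Cfsg.Agent.H2.BG14
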