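import Mathlib
import Cfsg.Agent.H2.BG14.B
import Cfsg.Agent.S1433

/-!
# B&G Section 14 (helper2), part C: `|M̃| = (|M_σ| - 1) |G : M|` (S1377)
-/

set_option autoImplicit false
set_option linter.unusedVariables false
set_option linter.unusedSectionVars false
set_option linter.style.haveILetI false
set_option maxHeartbeats 1000000

open scoped commutatorElement Pointwise

namespace Cfsg.Agent.H2.BG14

open Cfsg Cfsg.Agent.Lib.Helper8.BGTen Cfsg.Agent.H2.BG11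

universe u

variable {G : Type u} [Group G] [Finite G]

/-- the number of `w` with `w⁻¹ a w ∈ M_σ` is `|R(a)| |M|` -/
theorem card_conj_mem (hG : Cfsg.IsMinSimpleOddOrder G) {M : Subgroup G} (hM : IsCoatom M)
    {a : G} (ha : a ∈ Cfsg.sigmaCore M) (ha1 : a ≠ 1) :
    Nat.card {w : G // w⁻¹ * a * w ∈ Cfsg.sigmaCore M} =
      Nat.card ↥(Cfsg.supportR M a) * Nat.card ↥M := by
  obtain ⟨hn, hc⟩ := supportR_compl hG hM ha ha1
  have hRC : Cfsg.supportR M a ≤ Subgroup.centralizer ({a} : Set G) := hc.2.1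
  have hmem : ∀ (ρ : ↥(Cfsg.supportR M a)) (m : ↥M),
      ((ρ : G) * (m : G))⁻¹ * a * ((ρ : G) * (m : G)) ∈ Cfsg.sigmaCore M := by
    intro ρ m
    have h1 : (ρ : G)⁻¹ * a * (ρ : G) = a := by
      have := Subgroup.mem_centralizer_singleton_iff.mp (hRC ρ.2)
      have e : (ρ : G)⁻¹ * a * (ρ : G) = (ρ : G)⁻¹ * (a * (ρ : G)) := by group
      rw [e, ← this]
      group
    have e : ((ρ : G) * (m : G))⁻¹ * a * ((ρ : G) * (m : G)) =
        (m : G)⁻¹ * ((ρ : G)⁻¹ * a * (ρ : G)) * ((m : G)⁻¹)⁻¹ := by group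
    rw [e, h1]
    exact (Subgroup.mem_normalizer_iff.mp (le_normalizer_sigmaCore M (Subgroup.inv_mem _ m.2)) a).mp ha
  rw [← Nat.card_prod]
  symm
  apply Nat.card_congr
  refine Equiv.ofBijective (fun p => ⟨(p.1 : G) * (p.2 : G), hmem p.1 p.2⟩) ⟨?_, ?_⟩
  · rintro ⟨ρ, m⟩ ⟨ρ', m'⟩ h
    have h1 : (ρ : G) * (m : G) = (ρ' : G) * (m' : G) := congrArg Subtype.val h
    have h2 : (ρ' : G)⁻¹ * (ρ : G) = (m' : G) * (m : G)⁻¹ := by
      have : (ρ : G) = (ρ' : G) * (m' : G) * (m : G)⁻¹ := by rw [← h1]; group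
      rw [this]
      group
    have h3 : (ρ' : G)⁻¹ * (ρ : G) ∈ (M ⊓ Subgroup.centralizer ({a} : Set G)) ⊓ Cfsg.supportR M a := by
      have hR : (ρ' : G)⁻¹ * (ρ : G) ∈ Cfsg.supportR M a :=
        Subgroup.mul_mem _ (Subgroup.inv_mem _ ρ'.2) ρ.2
      refine ⟨⟨?_, hRC hR⟩, hR⟩
      rw [h2]
      exact Subgroup.mul_mem _ m'.2 (Subgroup.inv_mem _ m.2)
    rw [hc.2.2.1, Subgroup.mem_bot] at h3
    have h4 : (ρ : G) = (ρ' : G) := by
      have : (ρ : G) = (ρ' : G) * ((ρ' : G)⁻¹ * (ρ : G)) := by group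
      rw [this, h3, mul_one]
    have h5 : (m : G) = (m' : G) := by
      rw [h4] at h1
      exact mul_left_cancel h1
    exact Prod.ext (Subtype.ext h4) (Subtype.ext h5)
  · rintro ⟨w, hw⟩
    obtain ⟨κ, hκ, m, hm, hwe⟩ := exists_mul_of_conj_mem hG hM ha ha1 (sigmaCore_le M hw)
    obtain ⟨m', hm', ρ', hρ', hκe⟩ := hc.2.2.2 κ⁻¹ (Subgroup.inv_mem _ hκ)
    refine ⟨(⟨ρ'⁻¹, Subgroup.inv_mem _ hρ'⟩, ⟨m'⁻¹ * m, Subgroup.mul_mem _ (Subgroup.inv_mem _ hm'.1) hm⟩), ?_⟩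
    apply Subtype.ext
    change ρ'⁻¹ * (m'⁻¹ * m) = w
    have : κ = ρ'⁻¹ * m'⁻¹ := by
      have h1 : κ = (κ⁻¹)⁻¹ := (inv_inv κ).symm
      rw [h1, hκe]
      group
    rw [hwe, this]
    group

/-- the block `z (a R(a)) z⁻¹` -/
def Blk (M : Subgroup G) (z a : G) : Set G :=
  {g | ∃ ρ ∈ Cfsg.supportR M a, g = z * (a * ρ) * z⁻¹}

theorem card_blk (M : Subgroup G) (z a : G) :
    Nat.card ↥(Blk M z a) = Nat.card ↥(Cfsg.supportR M a) := by
  symm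
  apply Nat.card_congr
  refine Equiv.ofBijective (fun ρ => ⟨z * (a * (ρ : G)) * z⁻¹, ρ, ρ.2, rfl⟩) ⟨?_, ?_⟩
  · intro ρ ρ' h
    have h1 : z * (a * (ρ : G)) * z⁻¹ = z * (a * (ρ' : G)) * z⁻¹ := congrArg Subtype.val h
    apply Subtype.ext
    have h2 := mul_right_cancel h1
    exact mul_left_cancel (mul_left_cancel h2)
  · rintro ⟨g, ρ, hρ, rfl⟩
    exact ⟨⟨ρ, hρ⟩, rfl⟩

/-- a block, rewritten with the conjugated data -/
theorem blk_eq (hG : Cfsg.IsMinSimpleOddOrder G) {M : Subgroup G} (hM : IsCoatom M)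
    {a : G} (ha : a ∈ Cfsg.sigmaCore M) (ha1 : a ≠ 1) {z g : G} (hg : g ∈ Blk M z a) :
    ∃ ρ₁ ∈ Cfsg.supportR (cj z M) (z * a * z⁻¹), g = (z * a * z⁻¹) * ρ₁ := by
  obtain ⟨ρ, hρ, rfl⟩ := hg
  refine ⟨z * ρ * z⁻¹, ?_, by group⟩
  rw [supportR_cj hG hM ha ha1 z]
  exact conj_mem_cj hρ

theorem conj_ne_one {a z : G} (ha1 : a ≠ 1) : z * a * z⁻¹ ≠ 1 := by
  intro h
  apply ha1
  have : a = z⁻¹ * (z * a * z⁻¹) * z := by group
  rw [this, h]
  group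

/-- two blocks with a common element have the same centre -/
theorem blk_disjoint (hG : Cfsg.IsMinSimpleOddOrder G) {M : Subgroup G} (hM : IsCoatom M)
    {a a' : G} (ha : a ∈ Cfsg.sigmaCore M) (ha1 : a ≠ 1) (ha' : a' ∈ Cfsg.sigmaCore M)
    (ha1' : a' ≠ 1) {z z' g : G} (hg : g ∈ Blk M z a) (hg' : g ∈ Blk M z' a') :
    z * a * z⁻¹ = z' * a' * z'⁻¹ := by
  obtain ⟨ρ₁, hρ₁, e₁⟩ := blk_eq hG hM ha ha1 hg
  obtain ⟨ρ₂, hρ₂, e₂⟩ := blk_eq hG hM ha' ha1' hg'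
  by_contra hne
  have h1 : z * a * z⁻¹ ∈ Cfsg.sigmaCore (cj z M) := by
    rw [sigmaCore_cj hG hM z]
    exact conj_mem_cj ha
  have h2 : z' * a' * z'⁻¹ ∈ Cfsg.sigmaCore (cj z' M) := by
    rw [sigmaCore_cj hG hM z']
    exact conj_mem_cj ha'
  exact Cfsg.Agent.S1433.result hG (cj z M) (cj z' M) (isCoatom_cj hM z) (isCoatom_cj hM z')
    _ _ h1 h2 (conj_ne_one ha1) (conj_ne_one ha1') hne ρ₁ hρ₁ ρ₂ hρ₂ (e₁.symm.trans e₂)

/-- every element of `M̃` lies in the block attached to any representation of its centre -/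
theorem mem_blk_of_tilde (hG : Cfsg.IsMinSimpleOddOrder G) {M : Subgroup G} (hM : IsCoatom M)
    {a r y : G} (ha : a ∈ Cfsg.sigmaCore M) (ha1 : a ≠ 1) (hr : r ∈ Cfsg.supportR M a)
    {z b : G} (hb : b ∈ Cfsg.sigmaCore M) (hb1 : b ≠ 1) (hzb : z * b * z⁻¹ = y * a * y⁻¹) :
    y * (a * r) * y⁻¹ ∈ Blk M z b := by
  -- `w := z⁻¹ y`, `w a w⁻¹ = b`
  set w : G := z⁻¹ * y with hw
  have hwa : w * a * w⁻¹ = b := by
    have : w * a * w⁻¹ = z⁻¹ * (y * a * y⁻¹) * z := by rw [hw]; group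
    rw [this, ← hzb]
    group
  have hwb : w⁻¹ * b * w ∈ M := by
    have : w⁻¹ * b * w = a := by rw [← hwa]; group
    rw [this]
    exact sigmaCore_le M ha
  obtain ⟨κ, hκ, m, hm, hwe⟩ := exists_mul_of_conj_mem hG hM hb hb1 hwb
  obtain ⟨hn, hc⟩ := supportR_compl hG hM hb hb1
  have hκb : κ * b * κ⁻¹ = b := by
    have := Subgroup.mem_centralizer_singleton_iff.mp hκ
    rw [this]
    group
  -- `w r w⁻¹ ∈ R(b)`
  have h1 : w * r * w⁻¹ ∈ Cfsg.supportR M b := by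
    have h2 : w * r * w⁻¹ ∈ cj w (Cfsg.supportR M a) := conj_mem_cj hr
    rw [← supportR_cj hG hM ha ha1 w, hwa] at h2
    have h3 : cj w M = cj κ M := by
      rw [hwe, cj_mul, cj_eq_of_mem hm]
    rw [h3] at h2
    have h4 : Cfsg.supportR (cj κ M) b = cj κ (Cfsg.supportR M b) := by
      have := supportR_cj hG hM hb hb1 κ
      rwa [hκb] at this
    rw [h4, cj_eq_of_mem_normalizer (hn hκ)] at h2
    exact h2
  refine ⟨w * r * w⁻¹, h1, ?_⟩
  rw [← hwa, hw]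
  group

/-- the set of centres -/
def Centres (M : Subgroup G) : Type u :=
  {c : G // c ≠ 1 ∧ ∃ z : G, z⁻¹ * c * z ∈ Cfsg.sigmaCore M}

noncomputable instance (M : Subgroup G) : Fintype (Centres M) := by
  unfold Centres
  exact Fintype.ofFinite _

noncomputable def Centres.z {M : Subgroup G} (c : Centres M) : G := Classical.choose c.2.2

noncomputable def Centres.a {M : Subgroup G} (c : Centres M) : G := c.z⁻¹ * c.1 * c.z

theorem Centres.a_mem {M : Subgroup G} (c : Centres M) : c.a ∈ Cfsg.sigmaCore M :=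
  Classical.choose_spec c.2.2

theorem Centres.a_ne {M : Subgroup G} (c : Centres M) : c.a ≠ 1 := by
  intro h
  apply c.2.1
  have : c.1 = c.z * c.a * c.z⁻¹ := by unfold Centres.a; group
  rw [this, h]
  group

theorem Centres.conj_a {M : Subgroup G} (c : Centres M) : c.z * c.a * c.z⁻¹ = c.1 := by
  unfold Centres.a; group

/-- **S1377** -/
theorem s1377 (hG : Cfsg.IsMinSimpleOddOrder G) (M : Subgroup G) (hM : IsCoatom M) :
    Set.ncard (Cfsg.tildeOf M ((Cfsg.sigmaCore M : Set G) \ {1})) =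
      (Nat.card (Cfsg.sigmaCore M) - 1) * M.index := by
  classical
  -- `T ≃ Σ c, Blk c`
  have hT : Nat.card ↥(Cfsg.tildeOf M ((Cfsg.sigmaCore M : Set G) \ {1})) =
      ∑ c : Centres M, Nat.card ↥(Cfsg.supportR M c.a) := by
    have h1 : Nat.card (Σ c : Centres M, ↥(Blk M c.z c.a)) =
        ∑ c : Centres M, Nat.card ↥(Blk M c.z c.a) := Nat.card_sigma
    rw [show (∑ c : Centres M, Nat.card ↥(Cfsg.supportR M c.a)) =
      ∑ c : Centres M, Nat.card ↥(Blk M c.z c.a) from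
        Finset.sum_congr rfl (fun c _ => (card_blk M c.z c.a).symm), ← h1]
    symm
    apply Nat.card_congr
    have hmem : ∀ (c : Centres M) (g : ↥(Blk M c.z c.a)),
        (g : G) ∈ Cfsg.tildeOf M ((Cfsg.sigmaCore M : Set G) \ {1}) := by
      rintro c ⟨g, ρ, hρ, rfl⟩
      exact ⟨c.a, ⟨c.a_mem, fun h => c.a_ne h⟩, ρ, hρ, c.z, rfl⟩
    refine Equiv.ofBijective (fun p => ⟨(p.2 : G), hmem p.1 p.2⟩) ⟨?_, ?_⟩
    · rintro ⟨c, g, hg⟩ ⟨c', g', hg'⟩ h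
      have hgg : g = g' := congrArg Subtype.val h
      subst hgg
      have hcc : c = c' := by
        apply Subtype.ext
        rw [← c.conj_a, ← c'.conj_a]
        exact blk_disjoint hG hM c.a_mem c.a_ne c'.a_mem c'.a_ne hg hg'
      subst hcc
      rfl
    · rintro ⟨g, a, ⟨ha, ha1⟩, r, hr, y, rfl⟩
      have ha1' : a ≠ 1 := fun h => ha1 h
      let c : Centres M := ⟨y * a * y⁻¹, conj_ne_one ha1', y, by
        have : y⁻¹ * (y * a * y⁻¹) * y = a := by group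
        rw [this]
        exact ha⟩
      exact ⟨⟨c, ⟨y * (a * r) * y⁻¹,
        mem_blk_of_tilde hG hM ha ha1' hr c.a_mem c.a_ne c.conj_a⟩⟩, rfl⟩
  -- the pairs `(c, z)`
  have hS1 : Nat.card {p : G × G // p.1 ≠ 1 ∧ p.2⁻¹ * p.1 * p.2 ∈ Cfsg.sigmaCore M} =
      Nat.card G * (Nat.card (Cfsg.sigmaCore M) - 1) := by
    have e1 : Nat.card ↥((Cfsg.sigmaCore M : Set G) \ {1}) = Nat.card (Cfsg.sigmaCore M) - 1 := by
      rw [Nat.card_coe_set_eq, Set.ncard_sdiff_singleton_of_mem (Subgroup.one_mem _),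
        ← Nat.card_coe_set_eq]
      rfl
    rw [← e1, ← Nat.card_prod]
    apply Nat.card_congr
    refine ⟨fun p => (p.1.2, ⟨p.1.2⁻¹ * p.1.1 * p.1.2, p.2.2, fun h => p.2.1 ?_⟩),
      fun q => ⟨(q.1 * (q.2 : G) * q.1⁻¹, q.1), conj_ne_one (fun h => q.2.2.2 h), ?_⟩, ?_, ?_⟩
    · have h' : p.1.2⁻¹ * p.1.1 * p.1.2 = 1 := h
      have : p.1.1 = p.1.2 * (p.1.2⁻¹ * p.1.1 * p.1.2) * p.1.2⁻¹ := by group
      rw [this, h']
      group
    · have : q.1⁻¹ * (q.1 * (q.2 : G) * q.1⁻¹) * q.1 = (q.2 : G) := by group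
      change q.1⁻¹ * (q.1 * (q.2 : G) * q.1⁻¹) * q.1 ∈ Cfsg.sigmaCore M
      rw [this]
      exact q.2.2.1
    · rintro ⟨⟨c, z⟩, h1, h2⟩
      apply Subtype.ext
      apply Prod.ext
      · change z * (z⁻¹ * c * z) * z⁻¹ = c
        group
      · rfl
    · rintro ⟨z, a, ha⟩
      apply Prod.ext
      · rfl
      · apply Subtype.ext
        change z⁻¹ * (z * a * z⁻¹) * z = a
        group
  have hS2 : Nat.card {p : G × G // p.1 ≠ 1 ∧ p.2⁻¹ * p.1 * p.2 ∈ Cfsg.sigmaCore M} =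
      ∑ c : Centres M, Nat.card ↥(Cfsg.supportR M c.a) * Nat.card ↥M := by
    have h1 : Nat.card (Σ c : Centres M, {z : G // z⁻¹ * c.1 * z ∈ Cfsg.sigmaCore M}) =
        ∑ c : Centres M, Nat.card {z : G // z⁻¹ * c.1 * z ∈ Cfsg.sigmaCore M} := Nat.card_sigma
    have h2 : ∀ c : Centres M, Nat.card {z : G // z⁻¹ * c.1 * z ∈ Cfsg.sigmaCore M} =
        Nat.card ↥(Cfsg.supportR M c.a) * Nat.card ↥M := by
      intro c
      rw [← card_conj_mem hG hM c.a_mem c.a_ne]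
      apply Nat.card_congr
      refine ⟨fun z => ⟨c.z⁻¹ * z.1, ?_⟩, fun w => ⟨c.z * w.1, ?_⟩, ?_, ?_⟩
      · have : (c.z⁻¹ * z.1)⁻¹ * c.a * (c.z⁻¹ * z.1) = z.1⁻¹ * (c.z * c.a * c.z⁻¹) * z.1 := by group
        rw [this, c.conj_a]
        exact z.2
      · have : (c.z * w.1)⁻¹ * c.1 * (c.z * w.1) = w.1⁻¹ * (c.z⁻¹ * c.1 * c.z) * w.1 := by group
        rw [this]
        exact w.2
      · rintro ⟨z, hz⟩
        apply Subtype.ext
        change c.z * (c.z⁻¹ * z) = z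
        group
      · rintro ⟨w, hw⟩
        apply Subtype.ext
        change c.z⁻¹ * (c.z * w) = w
        group
    rw [show (∑ c : Centres M, Nat.card ↥(Cfsg.supportR M c.a) * Nat.card ↥M) =
      ∑ c : Centres M, Nat.card {z : G // z⁻¹ * c.1 * z ∈ Cfsg.sigmaCore M} from
        Finset.sum_congr rfl (fun c _ => (h2 c).symm), ← h1]
    apply Nat.card_congr
    refine ⟨fun p => ⟨⟨p.1.1, p.2.1, p.1.2, p.2.2⟩, ⟨p.1.2, p.2.2⟩⟩,
      fun q => ⟨(q.1.1, q.2.1), q.1.2.1, q.2.2⟩, ?_, ?_⟩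
    · rintro ⟨⟨c, z⟩, h1, h2⟩
      rfl
    · rintro ⟨⟨c, hc⟩, ⟨z, hz⟩⟩
      rfl
  -- conclusion
  rw [← Nat.card_coe_set_eq, hT]
  have h3 : (∑ c : Centres M, Nat.card ↥(Cfsg.supportR M c.a)) * Nat.card ↥M =
      Nat.card G * (Nat.card (Cfsg.sigmaCore M) - 1) := by
    rw [Finset.sum_mul, ← hS2, hS1]
  have h4 : Nat.card ↥M * M.index = Nat.card G := Subgroup.card_mul_index M
  have hMpos : 0 < Nat.card ↥M := Nat.card_pos
  apply Nat.eq_of_mul_eq_mul_right hMpos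
  rw [h3, ← h4]
  ring

end Cfsg.Agent.H2.BG14
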