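import Mathlib
import Cfsg.Agent.H2.BG14.C
import Cfsg.Agent.Lib.Helper4.BG14D
import Cfsg.Agent.S1377

/-!
# B&G Section 14 (helper2), part D: a Hall `κ(M)`-subgroup `K ≠ 1`, `K* = C_{M_σ}(K)`,
`Z = K K*`, `Ẑ = Z ∖ (K ∪ K*)`: fusion, counting, disjointness from the sets `Ñ`.

Conditional on `Hyp1430 G`, `Hyp1431 G` (= the frozen statements of S1430, S1431 as `Prop`s).
-/

set_option autoImplicit false
set_option linter.unusedVariables false
set_option linter.unusedSectionVars false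
set_option linter.style.haveILetI false
set_option maxHeartbeats 1000000

open scoped commutatorElement Pointwise

namespace Cfsg.Agent.H2.BG14

open Cfsg Cfsg.Agent.Lib.Helper8.BGTen Cfsg.Agent.H2.BG11

universe u

/-- generic counting: a set `X` whose fusion is controlled by a subgroup `Z` normalizing it -/
theorem card_conj_of_fusion {G : Type u} [Group G] [Finite G] (Z : Subgroup G) (X : Set G)
    (hfus : ∀ x ∈ X, ∀ g : G, g * x * g⁻¹ ∈ X → g ∈ Z)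
    (hnorm : ∀ ζ ∈ Z, ∀ x ∈ X, ζ⁻¹ * x * ζ ∈ X) :
    Nat.card ↥Z * Set.ncard {a : G | ∃ g : G, ∃ x ∈ X, a = g * x * g⁻¹} =
      Nat.card G * Set.ncard X := by
  classical
  set Cl : Set G := {a : G | ∃ g : G, ∃ x ∈ X, a = g * x * g⁻¹} with hCl
  have hex : ∀ a : ↥Cl, ∃ p : G × G, p.2 ∈ X ∧ (a : G) = p.1 * p.2 * p.1⁻¹ := by
    intro a
    obtain ⟨g, x, hx, h⟩ := a.2
    exact ⟨(g, x), hx, h⟩
  choose c hc using hex
  let f : ↥Cl × ↥Z → G × ↥X := fun q =>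
    ((c q.1).1 * (q.2 : G), ⟨(q.2 : G)⁻¹ * (c q.1).2 * (q.2 : G), hnorm _ q.2.2 _ (hc q.1).1⟩)
  have hφ : ∀ q : ↥Cl × ↥Z, (f q).1 * ((f q).2 : G) * (f q).1⁻¹ = (q.1 : G) := by
    intro q
    rw [(hc q.1).2]
    simp only [f]
    group
  have hinj : Function.Injective f := by
    intro q q' h
    have h1 : (q.1 : G) = (q'.1 : G) := by rw [← hφ q, ← hφ q', h]
    have h1' : q.1 = q'.1 := Subtype.ext h1
    have h2 : (f q).1 = (f q').1 := by rw [h]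
    simp only [f] at h2
    rw [h1'] at h2
    have h3 : (q.2 : G) = (q'.2 : G) := mul_left_cancel h2
    exact Prod.ext h1' (Subtype.ext h3)
  have hsurj : Function.Surjective f := by
    rintro ⟨g, ⟨x, hx⟩⟩
    have ha : g * x * g⁻¹ ∈ Cl := ⟨g, x, hx, rfl⟩
    set a : ↥Cl := ⟨g * x * g⁻¹, ha⟩ with ha'
    have hca := hc a
    set g₀ := (c a).1 with hg₀
    set x₀ := (c a).2 with hx₀
    have e : g * x * g⁻¹ = g₀ * x₀ * g₀⁻¹ := hca.2
    have hζ : g⁻¹ * g₀ ∈ Z := by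
      apply hfus x₀ hca.1
      have : g⁻¹ * g₀ * x₀ * (g⁻¹ * g₀)⁻¹ = g⁻¹ * (g₀ * x₀ * g₀⁻¹) * g := by group
      rw [this, ← e]
      have : g⁻¹ * (g * x * g⁻¹) * g = x := by group
      rw [this]
      exact hx
    have hζ' : g₀⁻¹ * g ∈ Z := by
      have : g₀⁻¹ * g = (g⁻¹ * g₀)⁻¹ := by group
      rw [this]
      exact Z.inv_mem hζ
    refine ⟨(a, ⟨g₀⁻¹ * g, hζ'⟩), ?_⟩
    simp only [f]
    refine Prod.ext ?_ (Subtype.ext ?_)
    · change g₀ * (g₀⁻¹ * g) = g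
      group
    · change (g₀⁻¹ * g)⁻¹ * x₀ * (g₀⁻¹ * g) = x
      have : (g₀⁻¹ * g)⁻¹ * x₀ * (g₀⁻¹ * g) = g⁻¹ * (g₀ * x₀ * g₀⁻¹) * g := by group
      rw [this, ← e]
      group
  have hcard : Nat.card (↥Cl × ↥Z) = Nat.card (G × ↥X) :=
    Nat.card_congr (Equiv.ofBijective f ⟨hinj, hsurj⟩)
  rw [Nat.card_prod, Nat.card_prod, Nat.card_coe_set_eq, Nat.card_coe_set_eq] at hcard
  rw [mul_comm, hcard]

/-- the statement of S1430, for all `M`, `K` -/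
def Hyp1430 (G : Type u) [Group G] : Prop :=
  ∀ (M : Subgroup G), IsCoatom M → ∀ K : Subgroup G, Cfsg.IsPiHallOf (Cfsg.kappa M) K M → K ≠ ⊥ →
    (∀ k ∈ K, k ≠ 1 → Cfsg.sigmaCore M ⊓ Subgroup.centralizer ({k} : Set G) = (Cfsg.sigmaCore M ⊓ Subgroup.centralizer (K : Set G))) ∧
      (∃ U : Subgroup G, IsMulCommutative U ∧ Cfsg.IsPiHallOf {q | q.Prime ∧ q ∉ Cfsg.kappa M ∧ q ∉ Cfsg.sigma M} U M ∧
        K ≤ Subgroup.normalizer (U : Set G) ∧ ∀ k ∈ K, k ≠ 1 → U ⊓ Subgroup.centralizer ({k} : Set G) = ⊥) ∧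
      ∀ X : Subgroup G, X ≤ K → (Nat.card X).Prime →
        M ⊓ Subgroup.normalizer (X : Set G) = K ⊔ (Cfsg.sigmaCore M ⊓ Subgroup.centralizer (K : Set G)) ∧ M ⊓ Subgroup.normalizer (K : Set G) = K ⊔ (Cfsg.sigmaCore M ⊓ Subgroup.centralizer (K : Set G)) ∧
        ∀ Mstar : Subgroup G, IsCoatom Mstar → Subgroup.normalizer (X : Set G) ≤ Mstar → X ≤ Cfsg.sigmaCore Mstar

/-- the statement of S1431, for all `M`, `K` -/
def Hyp1431 (G : Type u) [Group G] : Prop :=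
  ∀ (M : Subgroup G), IsCoatom M → ∀ K : Subgroup G, Cfsg.IsPiHallOf (Cfsg.kappa M) K M → K ≠ ⊥ →
    (∀ g : G, g ∉ M → (Cfsg.sigmaCore M ⊓ Subgroup.centralizer (K : Set G)) ⊓ M.map (MulAut.conj g).toMonoidHom = ⊥) ∧
      (∀ g ∈ M, g ∉ K ⊔ (Cfsg.sigmaCore M ⊓ Subgroup.centralizer (K : Set G)) → K ⊓ K.map (MulAut.conj g).toMonoidHom = ⊥) ∧
      (∀ (p : ℕ), p.Prime → p ∣ Nat.card ↥(Cfsg.sigmaCore M ⊓ Subgroup.centralizer (K : Set G)) → ∀ S : Sylow p ↥(Cfsg.sigmaCore M),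
        Cfsg.InUniqueMaximal ((S : Subgroup ↥(Cfsg.sigmaCore M)).map (Cfsg.sigmaCore M).subtype) ∧
        (S : Subgroup ↥(Cfsg.sigmaCore M)).map (Cfsg.sigmaCore M).subtype ≤ M ∧
        ¬ (S : Subgroup ↥(Cfsg.sigmaCore M)).map (Cfsg.sigmaCore M).subtype ≤ (Cfsg.sigmaCore M ⊓ Subgroup.centralizer (K : Set G))) ∧
      ∀ Y : Subgroup G, (∀ p : ℕ, p.Prime → p ∣ Nat.card Y → p ∈ Cfsg.sigma M) → Y ⊓ (Cfsg.sigmaCore M ⊓ Subgroup.centralizer (K : Set G)) ≠ ⊥ → Y ≤ Cfsg.sigmaCore M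

variable {G : Type u} [Group G] [Finite G]

/-- `K* = C_{M_σ}(K)` -/
abbrev Ks (M K : Subgroup G) : Subgroup G := Cfsg.sigmaCore M ⊓ Subgroup.centralizer (K : Set G)

/-- `Ẑ = K K* ∖ (K ∪ K*)` -/
abbrev Zhat (M K : Subgroup G) : Set G :=
  (↑(K ⊔ Ks M K) : Set G) \ ((K : Set G) ∪ ↑(Ks M K))

/-- the union of the conjugates of `Ẑ` -/
abbrev ZhatG (M K : Subgroup G) : Set G :=
  {a : G | ∃ g : G, ∃ z ∈ Zhat M K, a = g * z * g⁻¹}

section pair

variable {M K : Subgroup G}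

theorem comm_K_Ks {x y : G} (hx : x ∈ K) (hy : y ∈ Ks M K) : x * y = y * x :=
  Subgroup.mem_centralizer_iff.mp hy.2 x hx

theorem prime_mem_kappa (hK : Cfsg.IsPiHallOf (Cfsg.kappa M) K M) {p : ℕ} (hp : p.Prime)
    (hd : p ∣ Nat.card ↥K) : p ∈ Cfsg.kappa M := hK.2.1 p hp hd

theorem prime_mem_sigma (hG : Cfsg.IsMinSimpleOddOrder G) (hM : IsCoatom M) {p : ℕ} (hp : p.Prime)
    (hd : p ∣ Nat.card ↥(Ks M K)) : p ∈ Cfsg.sigma M :=
  mem_sigma_of_dvd_sigmaCore hG hM hp (dvd_trans hd (Subgroup.card_dvd_of_le inf_le_left))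

theorem coprime_K_Ks (hG : Cfsg.IsMinSimpleOddOrder G) (hM : IsCoatom M)
    (hK : Cfsg.IsPiHallOf (Cfsg.kappa M) K M) :
    (Nat.card ↥K).Coprime (Nat.card ↥(Ks M K)) := by
  apply Nat.coprime_of_dvd
  intro p hp h1 h2
  exact (prime_mem_kappa hK hp h1).2.2.1 (prime_mem_sigma hG hM hp h2)

theorem K_inf_Ks (hG : Cfsg.IsMinSimpleOddOrder G) (hM : IsCoatom M)
    (hK : Cfsg.IsPiHallOf (Cfsg.kappa M) K M) : K ⊓ Ks M K = ⊥ :=
  (Subgroup.disjoint_of_coprime_natCard (coprime_K_Ks hG hM hK)).eq_bot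

theorem Ks_ne_bot (h30 : Hyp1430 G) (hM : IsCoatom M)
    (hK : Cfsg.IsPiHallOf (Cfsg.kappa M) K M) (hK1 : K ≠ ⊥) : Ks M K ≠ ⊥ := by
  obtain ⟨p, hpf, P, hPK, hPc⟩ := Cfsg.Agent.Lib.Helper4.BG13.exists_prime_card_le hK1
  have hpκ : p ∈ Cfsg.kappa M :=
    prime_mem_kappa hK hpf.out (by rw [← hPc]; exact Subgroup.card_dvd_of_le hPK)
  have hfix := Cfsg.Agent.Lib.Helper4.BG14.kappa_fixed hpκ (hPK.trans hK.1) hPc
  have hP1 : P ≠ ⊥ := by
    intro h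
    rw [h, Subgroup.card_bot] at hPc
    exact hpf.out.one_lt.ne hPc
  obtain ⟨k, hkP, hk1⟩ := Cfsg.Agent.Lib.Helper4.BG14.exists_ne_one_of_ne_bot hP1
  have h1 := (h30 M hM K hK hK1).1 k (hPK hkP) hk1
  intro h0
  apply hfix
  rw [eq_bot_iff]
  intro y hy
  have : y ∈ Cfsg.sigmaCore M ⊓ Subgroup.centralizer ({k} : Set G) := by
    refine Subgroup.mem_inf.mpr ⟨hy.1, ?_⟩
    rw [Subgroup.mem_centralizer_singleton_iff]
    exact (Subgroup.mem_centralizer_iff.mp hy.2 k hkP).symm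
  rw [h1] at this
  change y ∈ Ks M K at this
  rw [h0] at this
  exact this

theorem mem_Zhat_iff (hG : Cfsg.IsMinSimpleOddOrder G) (hM : IsCoatom M)
    (hK : Cfsg.IsPiHallOf (Cfsg.kappa M) K M) {z : G} :
    z ∈ Zhat M K ↔ ∃ x ∈ K, x ≠ 1 ∧ ∃ y ∈ Ks M K, y ≠ 1 ∧ z = x * y := by
  constructor
  · rintro ⟨hz, hz'⟩
    obtain ⟨x, hx, y, hy, rfl⟩ :=
      Cfsg.Agent.H2.BG12.mem_sup_of_comm (fun a ha b hb => comm_K_Ks ha hb) hz
    refine ⟨x, hx, ?_, y, hy, ?_, rfl⟩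
    · rintro rfl
      apply hz'
      right
      rw [one_mul]
      exact hy
    · rintro rfl
      apply hz'
      left
      rw [mul_one]
      exact hx
  · rintro ⟨x, hx, hx1, y, hy, hy1, rfl⟩
    refine ⟨Subgroup.mul_mem _ (Subgroup.mem_sup_left hx) (Subgroup.mem_sup_right hy), ?_⟩
    rintro (h | h)
    · have h2 : y ∈ K := by
        have := K.mul_mem (K.inv_mem hx) h
        rwa [inv_mul_cancel_left] at this
      have h3 : y ∈ K ⊓ Ks M K := Subgroup.mem_inf.mpr ⟨h2, hy⟩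
      rw [K_inf_Ks hG hM hK, Subgroup.mem_bot] at h3
      exact hy1 h3
    · have h2 : x ∈ Ks M K := by
        have := (Ks M K).mul_mem h ((Ks M K).inv_mem hy)
        rwa [mul_inv_cancel_right] at this
      have h3 : x ∈ K ⊓ Ks M K := Subgroup.mem_inf.mpr ⟨hx, h2⟩
      rw [K_inf_Ks hG hM hK, Subgroup.mem_bot] at h3
      exact hx1 h3

theorem pow_card_mem {H : Subgroup G} {x : G} (hx : x ∈ H) : x ^ Nat.card ↥H = 1 := by
  have h : (⟨x, hx⟩ : ↥H) ^ Nat.card ↥H = 1 := pow_card_eq_one'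
  have h2 := congrArg Subtype.val h
  rw [Subgroup.coe_pow, Subgroup.coe_one] at h2
  exact h2

theorem pow_ne_one_of_coprime {H : Subgroup G} {x : G} (hx : x ∈ H) (hx1 : x ≠ 1) {n : ℕ}
    (hn : n.Coprime (Nat.card ↥H)) : x ^ n ≠ 1 := by
  intro h
  apply hx1
  rw [← orderOf_eq_one_iff]
  have h1 : orderOf x ∣ n := orderOf_dvd_of_pow_eq_one h
  have h2 : orderOf x ∣ Nat.card ↥H := Subgroup.orderOf_dvd_natCard _ hx
  exact Nat.eq_one_of_dvd_coprimes hn h1 h2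

theorem pow_card_K {x y : G} (hx : x ∈ K) (hy : y ∈ Ks M K) :
    (x * y) ^ Nat.card ↥K = y ^ Nat.card ↥K := by
  have hc : Commute x y := comm_K_Ks hx hy
  rw [hc.mul_pow, pow_card_mem hx, one_mul]

theorem pow_card_Ks {x y : G} (hx : x ∈ K) (hy : y ∈ Ks M K) :
    (x * y) ^ Nat.card ↥(Ks M K) = x ^ Nat.card ↥(Ks M K) := by
  have hc : Commute x y := comm_K_Ks hx hy
  rw [hc.mul_pow, pow_card_mem hy, mul_one]

/-- `C_G(y) ≤ M` for `y ∈ K*^#` -/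
theorem centralizer_le_of_mem_Ks (h31 : Hyp1431 G) (hM : IsCoatom M)
    (hK : Cfsg.IsPiHallOf (Cfsg.kappa M) K M) (hK1 : K ≠ ⊥) {y : G} (hy : y ∈ Ks M K)
    (hy1 : y ≠ 1) : Subgroup.centralizer ({y} : Set G) ≤ M := by
  intro c hc
  by_contra hcM
  have h := (h31 M hM K hK hK1).1 c hcM
  have h2 : y ∈ Ks M K ⊓ M.map (MulAut.conj c).toMonoidHom := by
    refine Subgroup.mem_inf.mpr ⟨hy, ?_⟩
    have h3 : c * y * c⁻¹ ∈ cj c M := conj_mem_cj (sigmaCore_le M hy.1)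
    have h4 : c * y * c⁻¹ = y := by
      rw [Subgroup.mem_centralizer_singleton_iff.mp hc]
      group
    rw [h4] at h3
    exact h3
  rw [h, Subgroup.mem_bot] at h2
  exact hy1 h2

/-- the fusion lemma: `Z` controls fusion in `Ẑ` -/
theorem fusion_Zhat (hG : Cfsg.IsMinSimpleOddOrder G) (h31 : Hyp1431 G) (hM : IsCoatom M)
    (hK : Cfsg.IsPiHallOf (Cfsg.kappa M) K M) (hK1 : K ≠ ⊥) {z g : G} (hz : z ∈ Zhat M K)
    (hgz : g * z * g⁻¹ ∈ Zhat M K) : g ∈ K ⊔ Ks M K := by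
  obtain ⟨x, hx, hx1, y, hy, hy1, rfl⟩ := (mem_Zhat_iff hG hM hK).mp hz
  obtain ⟨x', hx', hx1', y', hy', hy1', he⟩ := (mem_Zhat_iff hG hM hK).mp hgz
  have hcop := coprime_K_Ks hG hM hK
  have h1 : g * y ^ Nat.card ↥K * g⁻¹ = y' ^ Nat.card ↥K := by
    rw [← pow_card_K hx hy, ← pow_card_K hx' hy', ← he, conj_pow]
  have h2 : g * x ^ Nat.card ↥(Ks M K) * g⁻¹ = x' ^ Nat.card ↥(Ks M K) := by
    rw [← pow_card_Ks hx hy, ← pow_card_Ks hx' hy', ← he, conj_pow]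
  have hgM : g ∈ M := by
    by_contra hgM
    have hgM' : g⁻¹ ∉ M := fun h => hgM (by simpa using M.inv_mem h)
    have h := (h31 M hM K hK hK1).1 g⁻¹ hgM'
    have h3 : y ^ Nat.card ↥K ∈ Ks M K ⊓ M.map (MulAut.conj g⁻¹).toMonoidHom := by
      refine Subgroup.mem_inf.mpr ⟨Subgroup.pow_mem _ hy _, ?_⟩
      have h4 : g⁻¹ * y' ^ Nat.card ↥K * g⁻¹⁻¹ ∈ cj g⁻¹ M :=
        conj_mem_cj (M.pow_mem (sigmaCore_le M hy'.1) _)
      have h5 : g⁻¹ * y' ^ Nat.card ↥K * g⁻¹⁻¹ = y ^ Nat.card ↥K := by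
        rw [← h1]
        group
      rw [h5] at h4
      exact h4
    rw [h, Subgroup.mem_bot] at h3
    exact pow_ne_one_of_coprime hy hy1 hcop h3
  by_contra hgZ
  have h := (h31 M hM K hK hK1).2.1 g hgM hgZ
  have h3 : x' ^ Nat.card ↥(Ks M K) ∈ K ⊓ K.map (MulAut.conj g).toMonoidHom := by
    refine Subgroup.mem_inf.mpr ⟨K.pow_mem hx' _, ?_⟩
    rw [← h2]
    exact conj_mem_cj (K.pow_mem hx _)
  rw [h, Subgroup.mem_bot] at h3
  exact pow_ne_one_of_coprime hx' hx1' hcop.symm h3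

/-- `Z` normalizes `Ẑ` -/
theorem norm_Zhat (hG : Cfsg.IsMinSimpleOddOrder G) (hM : IsCoatom M)
    (hK : Cfsg.IsPiHallOf (Cfsg.kappa M) K M) {ζ z : G} (hζ : ζ ∈ K ⊔ Ks M K)
    (hz : z ∈ Zhat M K) : ζ⁻¹ * z * ζ ∈ Zhat M K := by
  obtain ⟨x, hx, hx1, y, hy, hy1, rfl⟩ := (mem_Zhat_iff hG hM hK).mp hz
  obtain ⟨a, ha, b, hb, rfl⟩ :=
    Cfsg.Agent.H2.BG12.mem_sup_of_comm (fun a ha b hb => comm_K_Ks (M := M) ha hb) hζ
  rw [mem_Zhat_iff hG hM hK]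
  have hab : a * b = b * a := comm_K_Ks ha hb
  have hxb : x * b = b * x := comm_K_Ks hx hb
  have hay : a * y = y * a := comm_K_Ks ha hy
  refine ⟨a⁻¹ * x * a, K.mul_mem (K.mul_mem (K.inv_mem ha) hx) ha, ?_, b⁻¹ * y * b,
    (Ks M K).mul_mem ((Ks M K).mul_mem ((Ks M K).inv_mem hb) hy) hb, ?_, ?_⟩
  · intro h
    apply hx1
    have : x = a * (a⁻¹ * x * a) * a⁻¹ := by group
    rw [this, h]
    group
  · intro h
    apply hy1
    have : y = b * (b⁻¹ * y * b) * b⁻¹ := by group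
    rw [this, h]
    group
  · have hcx : a⁻¹ * x * a * b = b * (a⁻¹ * x * a) :=
      comm_K_Ks (K.mul_mem (K.mul_mem (K.inv_mem ha) hx) ha) hb
    calc (a * b)⁻¹ * (x * y) * (a * b) = b⁻¹ * (a⁻¹ * x * (a * y)) * b * (b⁻¹ * a⁻¹ * (a * b)) := by
          rw [hay]; group
      _ = b⁻¹ * ((a⁻¹ * x * a) * y) * b := by group
      _ = b⁻¹ * ((a⁻¹ * x * a * b) * (b⁻¹ * y * b)) := by group
      _ = a⁻¹ * x * a * (b⁻¹ * y * b) := by rw [hcx]; group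

theorem card_sup_of_comm {A B : Subgroup G} (hc : ∀ a ∈ A, ∀ b ∈ B, a * b = b * a)
    (hAB : A ⊓ B = ⊥) : Nat.card ↥(A ⊔ B) = Nat.card ↥A * Nat.card ↥B := by
  rw [← Nat.card_prod]
  symm
  let f : ↥A × ↥B → ↥(A ⊔ B) := fun q =>
    ⟨(q.1 : G) * (q.2 : G), Subgroup.mul_mem _ (Subgroup.mem_sup_left q.1.2)
      (Subgroup.mem_sup_right q.2.2)⟩
  have hinj : Function.Injective f := by
    rintro ⟨⟨a, ha⟩, ⟨b, hb⟩⟩ ⟨⟨a', ha'⟩, ⟨b', hb'⟩⟩ h
    have h1 : a * b = a' * b' := congrArg Subtype.val h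
    have h2 : a'⁻¹ * a = b' * b⁻¹ := by
      have : a'⁻¹ * a = a'⁻¹ * (a * b) * b⁻¹ := by group
      rw [this, h1]
      group
    have h3 : a'⁻¹ * a ∈ A ⊓ B := by
      refine Subgroup.mem_inf.mpr ⟨A.mul_mem (A.inv_mem ha') ha, ?_⟩
      rw [h2]
      exact B.mul_mem hb' (B.inv_mem hb)
    rw [hAB, Subgroup.mem_bot] at h3
    have h4 : a = a' := by
      have : a = a' * (a'⁻¹ * a) := by group
      rw [this, h3, mul_one]
    have h5 : b = b' := by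
      rw [h4] at h1
      exact mul_left_cancel h1
    subst h4
    subst h5
    rfl
  have hsurj : Function.Surjective f := by
    rintro ⟨z, hz⟩
    obtain ⟨a, ha, b, hb, rfl⟩ := Cfsg.Agent.H2.BG12.mem_sup_of_comm hc hz
    exact ⟨(⟨a, ha⟩, ⟨b, hb⟩), rfl⟩
  exact Nat.card_congr (Equiv.ofBijective f ⟨hinj, hsurj⟩)

theorem ncard_hat_of_comm {A B : Subgroup G} (hc : ∀ a ∈ A, ∀ b ∈ B, a * b = b * a)
    (hAB : A ⊓ B = ⊥) :
    Set.ncard ((↑(A ⊔ B) : Set G) \ ((A : Set G) ∪ ↑B)) =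
      (Nat.card ↥A - 1) * (Nat.card ↥B - 1) := by
  have e1 : Nat.card ↥((A : Set G) \ {1}) = Nat.card ↥A - 1 := by
    rw [Nat.card_coe_set_eq, Set.ncard_sdiff_singleton_of_mem (Subgroup.one_mem _),
      ← Nat.card_coe_set_eq]
    rfl
  have e2 : Nat.card ↥((B : Set G) \ {1}) = Nat.card ↥B - 1 := by
    rw [Nat.card_coe_set_eq, Set.ncard_sdiff_singleton_of_mem (Subgroup.one_mem _),
      ← Nat.card_coe_set_eq]
    rfl
  rw [← e1, ← e2, ← Nat.card_prod, ← Nat.card_coe_set_eq]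
  symm
  have hmem : ∀ q : ↥((A : Set G) \ {1}) × ↥((B : Set G) \ {1}),
      (q.1 : G) * (q.2 : G) ∈ (↑(A ⊔ B) : Set G) \ ((A : Set G) ∪ ↑B) := by
    rintro ⟨⟨a, ha, ha1⟩, ⟨b, hb, hb1⟩⟩
    refine ⟨Subgroup.mul_mem _ (Subgroup.mem_sup_left ha) (Subgroup.mem_sup_right hb), ?_⟩
    rintro (h | h)
    · have h2 : b ∈ A := by
        have := A.mul_mem (A.inv_mem ha) h
        rwa [inv_mul_cancel_left] at this
      have h3 : b ∈ A ⊓ B := Subgroup.mem_inf.mpr ⟨h2, hb⟩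
      rw [hAB, Subgroup.mem_bot] at h3
      exact hb1 h3
    · have h2 : a ∈ B := by
        have := B.mul_mem h (B.inv_mem hb)
        rwa [mul_inv_cancel_right] at this
      have h3 : a ∈ A ⊓ B := Subgroup.mem_inf.mpr ⟨ha, h2⟩
      rw [hAB, Subgroup.mem_bot] at h3
      exact ha1 h3
  let f : ↥((A : Set G) \ {1}) × ↥((B : Set G) \ {1}) →
      ↥((↑(A ⊔ B) : Set G) \ ((A : Set G) ∪ ↑B)) := fun q => ⟨(q.1 : G) * (q.2 : G), hmem q⟩
  have hinj : Function.Injective f := by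
    rintro ⟨⟨a, ha, ha1⟩, ⟨b, hb, hb1⟩⟩ ⟨⟨a', ha', ha1'⟩, ⟨b', hb', hb1'⟩⟩ h
    have h1 : a * b = a' * b' := congrArg Subtype.val h
    have h2 : a'⁻¹ * a = b' * b⁻¹ := by
      have : a'⁻¹ * a = a'⁻¹ * (a * b) * b⁻¹ := by group
      rw [this, h1]
      group
    have h3 : a'⁻¹ * a ∈ A ⊓ B := by
      refine Subgroup.mem_inf.mpr ⟨A.mul_mem (A.inv_mem ha') ha, ?_⟩
      rw [h2]
      exact B.mul_mem hb' (B.inv_mem hb)
    rw [hAB, Subgroup.mem_bot] at h3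
    have h4 : a = a' := by
      have : a = a' * (a'⁻¹ * a) := by group
      rw [this, h3, mul_one]
    have h5 : b = b' := by
      rw [h4] at h1
      exact mul_left_cancel h1
    subst h4
    subst h5
    rfl
  have hsurj : Function.Surjective f := by
    rintro ⟨z, hz, hz'⟩
    obtain ⟨a, ha, b, hb, rfl⟩ := Cfsg.Agent.H2.BG12.mem_sup_of_comm hc hz
    have ha1 : a ≠ 1 := by
      rintro rfl
      apply hz'
      right
      rw [one_mul]
      exact hb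
    have hb1 : b ≠ 1 := by
      rintro rfl
      apply hz'
      left
      rw [mul_one]
      exact ha
    exact ⟨(⟨a, ha, ha1⟩, ⟨b, hb, hb1⟩), rfl⟩
  exact Nat.card_congr (Equiv.ofBijective f ⟨hinj, hsurj⟩)

/-- the count of the conjugates of `Ẑ` -/
theorem card_ZhatG (hG : Cfsg.IsMinSimpleOddOrder G) (h31 : Hyp1431 G) (hM : IsCoatom M)
    (hK : Cfsg.IsPiHallOf (Cfsg.kappa M) K M) (hK1 : K ≠ ⊥) :
    Nat.card ↥K * Nat.card ↥(Ks M K) * Set.ncard (ZhatG M K) =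
      (Nat.card ↥K - 1) * (Nat.card ↥(Ks M K) - 1) * Nat.card G := by
  have h := card_conj_of_fusion (K ⊔ Ks M K) (Zhat M K)
    (fun x hx g hg => fusion_Zhat hG h31 hM hK hK1 hx hg)
    (fun ζ hζ x hx => norm_Zhat hG hM hK hζ hx)
  rw [card_sup_of_comm (fun a ha b hb => comm_K_Ks ha hb) (K_inf_Ks hG hM hK),
    ncard_hat_of_comm (fun a ha b hb => comm_K_Ks ha hb) (K_inf_Ks hG hM hK)] at h
  rw [h, mul_comm]

theorem three_le_card (hG : Cfsg.IsMinSimpleOddOrder G) {H : Subgroup G} (hH : H ≠ ⊥) :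
    3 ≤ Nat.card ↥H := by
  have h1 : Nat.card ↥H ≠ 1 := fun h => hH (Subgroup.card_eq_one.mp h)
  have h2 : Odd (Nat.card ↥H) := odd_card_subgroup hG H
  have h3 : 0 < Nat.card ↥H := Nat.card_pos
  obtain ⟨i, hi⟩ := h2
  omega

theorem arith_density {k ks : ℕ} (hk : 3 ≤ k) (hks : 3 ≤ ks) (hko : Odd k) (hkso : Odd ks)
    (hne : k ≠ ks) : k * ks < 2 * ((k - 1) * (ks - 1)) := by
  obtain ⟨i, rfl⟩ := hko
  obtain ⟨j, rfl⟩ := hkso
  have hi : 1 ≤ i := by omega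
  have hj : 1 ≤ j := by omega
  have hij : i ≠ j := fun h => hne (by rw [h])
  have e1 : 2 * i + 1 - 1 = 2 * i := by omega
  have e2 : 2 * j + 1 - 1 = 2 * j := by omega
  rw [e1, e2]
  rcases Nat.lt_or_ge 1 i with h | h
  · have h1 : 2 * j ≤ i * j := Nat.mul_le_mul_right j h
    have h2 : i ≤ i * j := Nat.le_mul_of_pos_right i hj
    nlinarith
  · have hi1 : i = 1 := le_antisymm h hi
    have hj2 : 2 ≤ j := by omega
    subst hi1
    nlinarith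

/-- the conjugates of `Ẑ` cover more than half of `G` -/
theorem density_ZhatG (hG : Cfsg.IsMinSimpleOddOrder G) (h30 : Hyp1430 G) (h31 : Hyp1431 G)
    (hM : IsCoatom M) (hK : Cfsg.IsPiHallOf (Cfsg.kappa M) K M) (hK1 : K ≠ ⊥) :
    Nat.card G < 2 * Set.ncard (ZhatG M K) := by
  have hc := card_ZhatG hG h31 hM hK hK1
  have hk := three_le_card hG hK1
  have hks := three_le_card hG (Ks_ne_bot h30 hM hK hK1)
  have hcop := coprime_K_Ks hG hM hK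
  have hne : Nat.card ↥K ≠ Nat.card ↥(Ks M K) := by
    intro h
    rw [← h, Nat.coprime_self] at hcop
    omega
  have ha := arith_density hk hks (odd_card_subgroup hG K) (odd_card_subgroup hG _) hne
  by_contra hcon
  push Not at hcon
  have hg : 0 < Nat.card G := Nat.card_pos
  have h1 : Nat.card ↥K * Nat.card ↥(Ks M K) * (2 * Set.ncard (ZhatG M K)) ≤
      Nat.card ↥K * Nat.card ↥(Ks M K) * Nat.card G := Nat.mul_le_mul_left _ hcon
  have h2 : Nat.card ↥K * Nat.card ↥(Ks M K) * (2 * Set.ncard (ZhatG M K)) =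
      2 * ((Nat.card ↥K - 1) * (Nat.card ↥(Ks M K) - 1)) * Nat.card G := by
    calc Nat.card ↥K * Nat.card ↥(Ks M K) * (2 * Set.ncard (ZhatG M K))
        = 2 * (Nat.card ↥K * Nat.card ↥(Ks M K) * Set.ncard (ZhatG M K)) := by ring
      _ = 2 * ((Nat.card ↥K - 1) * (Nat.card ↥(Ks M K) - 1) * Nat.card G) := by rw [hc]
      _ = 2 * ((Nat.card ↥K - 1) * (Nat.card ↥(Ks M K) - 1)) * Nat.card G := by ring
  rw [h2] at h1
  have h3 := Nat.le_of_mul_le_mul_right h1 hg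
  omega

end pair

/-! ### the sets `Ñ` -/

/-- a power of prime order -/
theorem exists_pow_prime_order {a : G} (ha1 : a ≠ 1) :
    ∃ p : ℕ, p.Prime ∧ p ∣ orderOf a ∧ ∃ k : ℕ, orderOf (a ^ k) = p := by
  have hord : orderOf a ≠ 1 := fun h => ha1 (orderOf_eq_one_iff.mp h)
  obtain ⟨p, hp, hpd⟩ := Nat.exists_prime_and_dvd hord
  refine ⟨p, hp, hpd, ?_⟩
  obtain ⟨k, hk⟩ := hpd
  refine ⟨k, ?_⟩
  have h1 : orderOf (a ^ k) = orderOf a / Nat.gcd (orderOf a) k := orderOf_pow a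
  have hk0 : 0 < k := by
    rcases Nat.eq_zero_or_pos k with h0 | h0
    · rw [h0, mul_zero] at hk
      exact absurd hk (orderOf_pos a).ne'
    · exact h0
  have h2 : Nat.gcd (orderOf a) k = k := Nat.gcd_eq_right ⟨p, by rw [hk, mul_comm]⟩
  rw [h1, h2, hk]
  exact Nat.mul_div_cancel p hk0

/-- a nonidentity element of `M_σ` gives a prime of `σ(M)` dividing its order -/
theorem exists_prime_sigma_of_mem (hG : Cfsg.IsMinSimpleOddOrder G) {M : Subgroup G}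
    (hM : IsCoatom M) {a : G} (ha : a ∈ Cfsg.sigmaCore M) (ha1 : a ≠ 1) :
    ∃ p : ℕ, p.Prime ∧ p ∣ orderOf a ∧ p ∈ Cfsg.sigma M := by
  obtain ⟨p, hp, hpd, -⟩ := exists_pow_prime_order ha1
  exact ⟨p, hp, hpd, mem_sigma_of_dvd_sigmaCore hG hM hp
    (dvd_trans hpd (Subgroup.orderOf_dvd_natCard _ ha))⟩

/-- normal form of a conjugate lying in `Ñ` -/
theorem exists_of_conj_mem_tilde (hG : Cfsg.IsMinSimpleOddOrder G) {N : Subgroup G}
    (hN : IsCoatom N) {y z : G}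
    (h : y * z * y⁻¹ ∈ Cfsg.tildeOf N ((Cfsg.sigmaCore N : Set G) \ {1})) :
    ∃ v : G, ∃ a ∈ Cfsg.sigmaCore (cj v N), a ≠ 1 ∧ ∃ r ∈ Cfsg.supportR (cj v N) a, z = a * r := by
  obtain ⟨a, ⟨ha, ha1⟩, r, hr, w, he⟩ := h
  have ha1' : a ≠ 1 := fun h => ha1 h
  refine ⟨y⁻¹ * w, (y⁻¹ * w) * a * (y⁻¹ * w)⁻¹, ?_, conj_ne_one ha1',
    (y⁻¹ * w) * r * (y⁻¹ * w)⁻¹, ?_, ?_⟩
  · rw [sigmaCore_cj hG hN]
    exact conj_mem_cj ha
  · rw [supportR_cj hG hN ha ha1']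
    exact conj_mem_cj hr
  · have : z = y⁻¹ * (y * z * y⁻¹) * y := by group
    rw [this, he]
    group

/-- in `z = a r` (`a ∈ N_σ^#`, `r ∈ R(a)`) the element `a` is a power of `z` -/
theorem mem_zpowers_of_tilde (hG : Cfsg.IsMinSimpleOddOrder G) {N : Subgroup G}
    (hN : IsCoatom N) {a r : G} (ha : a ∈ Cfsg.sigmaCore N) (ha1 : a ≠ 1)
    (hr : r ∈ Cfsg.supportR N a) : a ∈ Subgroup.zpowers (a * r) := by
  obtain ⟨hc, hrσ⟩ := supportR_facts hG (hyp1375 hG) hN ha ha1 hr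
  have hcop := coprime_orderOf_of_sigma hG hN ha hrσ
  have h1 : (a * r) ^ orderOf r = a ^ orderOf r := by
    rw [hc.mul_pow, pow_orderOf_eq_one, mul_one]
  obtain ⟨m, hm⟩ := exists_pow_eq_self_of_coprime (x := a) (n := orderOf r) hcop
  have h2 : ((a * r) ^ orderOf r) ^ m ∈ Subgroup.zpowers (a * r) :=
    Subgroup.pow_mem _ (Subgroup.pow_mem _ (Subgroup.mem_zpowers (a * r)) _) _
  rw [h1, hm] at h2
  exact h2

/-- **S1379, part 1**: `M̃ ∩ Ñ = ∅` for non-conjugate maximal subgroups -/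
theorem tilde_disjoint (hG : Cfsg.IsMinSimpleOddOrder G) {M N : Subgroup G} (hM : IsCoatom M)
    (hN : IsCoatom N) (hnc : ∀ g : G, N ≠ M.map (MulAut.conj g).toMonoidHom) :
    Cfsg.tildeOf M ((Cfsg.sigmaCore M : Set G) \ {1}) ∩
      Cfsg.tildeOf N ((Cfsg.sigmaCore N : Set G) \ {1}) = ∅ := by
  rw [Set.eq_empty_iff_forall_notMem]
  rintro g ⟨h1, h2⟩
  have e : g = 1 * g * 1⁻¹ := by group
  rw [e] at h1 h2
  obtain ⟨v, a, ha, ha1, r, hr, hg1⟩ := exists_of_conj_mem_tilde hG hM h1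
  obtain ⟨v', b, hb, hb1, s, hs, hg2⟩ := exists_of_conj_mem_tilde hG hN h2
  have hMv := isCoatom_cj hM v
  have hNv := isCoatom_cj hN v'
  by_cases hab : a = b
  · subst hab
    obtain ⟨p, hp, hpd, hpσ⟩ := exists_prime_sigma_of_mem hG hMv ha ha1
    have hpσ' : p ∈ Cfsg.sigma (cj v' N) :=
      mem_sigma_of_dvd_sigmaCore hG hNv hp (dvd_trans hpd (Subgroup.orderOf_dvd_natCard _ hb))
    obtain ⟨g', hg'⟩ := (Cfsg.Agent.S1378.result hG).2 (cj v M) (cj v' N) hMv hNv ⟨p, hpσ, hpσ'⟩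
    apply hnc (v'⁻¹ * g' * v)
    change N = cj (v'⁻¹ * g' * v) M
    rw [cj_mul, cj_mul]
    change cj v' N = cj g' (cj v M) at hg'
    rw [← hg', cj_inv_cj]
  · exact s1433_of hG (hyp1375 hG) (cj v M) (cj v' N) hMv hNv a b ha hb ha1 hb1 hab r hr s hs
      (hg1.symm.trans hg2)

section pair2

variable {M K : Subgroup G}

/-- **S1379, part 3b**: no conjugate of an element of `Ẑ` lies in any `Ñ` -/
theorem conj_Zhat_not_mem_tilde (hG : Cfsg.IsMinSimpleOddOrder G) (h30 : Hyp1430 G)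
    (h31 : Hyp1431 G) (hM : IsCoatom M) (hK : Cfsg.IsPiHallOf (Cfsg.kappa M) K M) (hK1 : K ≠ ⊥)
    {N : Subgroup G} (hN : IsCoatom N) (y : G) {z : G} (hz : z ∈ Zhat M K) :
    y * z * y⁻¹ ∉ Cfsg.tildeOf N ((Cfsg.sigmaCore N : Set G) \ {1}) := by
  intro h
  obtain ⟨v, a, ha, ha1, r, hr, hzar⟩ := exists_of_conj_mem_tilde hG hN h
  have hN' := isCoatom_cj hN v
  generalize cj v N = N' at ha hr hN'
  have hcop := coprime_K_Ks hG hM hK
  -- `a ∈ Z`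
  have haz : a ∈ Subgroup.zpowers z := by
    rw [hzar]
    exact mem_zpowers_of_tilde hG hN' ha ha1 hr
  have hzZ : z ∈ K ⊔ Ks M K := hz.1
  have haZ : a ∈ K ⊔ Ks M K := (Subgroup.zpowers_le.mpr hzZ) haz
  obtain ⟨x₀, hx₀, y₀, hy₀, hae⟩ :=
    Cfsg.Agent.H2.BG12.mem_sup_of_comm (fun a ha b hb => comm_K_Ks (M := M) ha hb) haZ
  -- `r ≠ 1` as soon as `a ∈ K ∪ K*`
  have hr1 : a ∈ K ∨ a ∈ Ks M K → r ≠ 1 := by
    intro haK hr1
    rw [hr1, mul_one] at hzar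
    rw [hzar] at hz
    rcases haK with h' | h'
    · exact hz.2 (Or.inl h')
    · exact hz.2 (Or.inr h')
  by_cases hconj : ∃ g : G, N' = M.map (MulAut.conj g).toMonoidHom
  · obtain ⟨g, hg⟩ := hconj
    have hσ : Cfsg.sigma N' = Cfsg.sigma M := by
      rw [hg]
      exact sigma_cj g M
    -- `x₀ = 1`
    have hx₀1 : x₀ = 1 := by
      by_contra hne
      have h1 : x₀ ^ Nat.card ↥(Ks M K) ≠ 1 := pow_ne_one_of_coprime hx₀ hne hcop.symm
      obtain ⟨q, hq, hqd, -⟩ := exists_pow_prime_order h1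
      have hq1 : q ∣ Nat.card ↥K :=
        dvd_trans hqd (Subgroup.orderOf_dvd_natCard _ (K.pow_mem hx₀ _))
      have hq2 : q ∈ Cfsg.sigma N' := by
        apply mem_sigma_of_dvd_sigmaCore hG hN' hq
        apply dvd_trans hqd
        apply Subgroup.orderOf_dvd_natCard
        rw [← pow_card_Ks hx₀ hy₀, ← hae]
        exact Subgroup.pow_mem _ ha _
      rw [hσ] at hq2
      exact (prime_mem_kappa hK hq hq1).2.2.1 hq2
    rw [hx₀1, one_mul] at hae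
    have haKs : a ∈ Ks M K := hae ▸ hy₀
    obtain ⟨N₁, hN₁, hCN₁, huniq, -, hc⟩ :=
      supportR_spec (hyp1375 hG) hN' ha ha1 hr (hr1 (Or.inr haKs))
    have hMN₁ : M = N₁ := huniq M hM (centralizer_le_of_mem_Ks h31 hM hK hK1 haKs ha1)
    have haN₁ : a ∈ N₁ := hCN₁ (Subgroup.mem_centralizer_singleton_iff.mpr rfl)
    obtain ⟨q, hq, hqd, hqσ⟩ := exists_prime_sigma_of_mem hG hN' ha ha1
    apply sigma_disjoint_of_spec hG hN' hN₁ ha ha1 haN₁ hc q hqσ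
    rw [← hMN₁, ← hσ]
    exact hqσ
  · push Not at hconj
    have hdisj : ∀ t : ℕ, t ∈ Cfsg.sigma M → t ∉ Cfsg.sigma N' := by
      intro t h1 h2
      obtain ⟨g, hg⟩ := (Cfsg.Agent.S1378.result hG).2 M N' hM hN' ⟨t, h1, h2⟩
      exact hconj g hg
    -- `y₀ = 1`
    have hy₀1 : y₀ = 1 := by
      by_contra hne
      have h1 : y₀ ^ Nat.card ↥K ≠ 1 := pow_ne_one_of_coprime hy₀ hne hcop
      obtain ⟨q, hq, hqd, -⟩ := exists_pow_prime_order h1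
      have hq1 : q ∣ Nat.card ↥(Ks M K) :=
        dvd_trans hqd (Subgroup.orderOf_dvd_natCard _ (Subgroup.pow_mem _ hy₀ _))
      have hq2 : q ∈ Cfsg.sigma N' := by
        apply mem_sigma_of_dvd_sigmaCore hG hN' hq
        apply dvd_trans hqd
        apply Subgroup.orderOf_dvd_natCard
        rw [← pow_card_K hx₀ hy₀, ← hae]
        exact Subgroup.pow_mem _ ha _
      exact hdisj q (prime_mem_sigma hG hM hq hq1) hq2
    rw [hy₀1, mul_one] at hae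
    have haK : a ∈ K := hae ▸ hx₀
    obtain ⟨N₁, hN₁, hCN₁, huniq, -, hc⟩ :=
      supportR_spec (hyp1375 hG) hN' ha ha1 hr (hr1 (Or.inl haK))
    have haN₁ : a ∈ N₁ := hCN₁ (Subgroup.mem_centralizer_singleton_iff.mpr rfl)
    -- a subgroup `X ≤ ⟨a⟩` of prime order `q ∈ σ(N')`
    obtain ⟨q, hq, hqd, k, hk⟩ := exists_pow_prime_order ha1
    set X : Subgroup G := Subgroup.zpowers (a ^ k) with hX
    have hXc : Nat.card ↥X = q := by rw [hX, Nat.card_zpowers, hk]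
    have hXK : X ≤ K := by
      rw [hX, Subgroup.zpowers_le]
      exact K.pow_mem haK k
    have hX1 : X ≠ ⊥ := by
      intro h0
      rw [h0, Subgroup.card_bot] at hXc
      exact hq.one_lt.ne hXc
    have hXt : X ≠ ⊤ := ne_top_of_le_coatom hM (hXK.trans hK.1)
    obtain ⟨L, hL, hNL⟩ := exists_coatom_ge (normalizer_ne_top' hG hX1 hXt)
    have hXL : X ≤ Cfsg.sigmaCore L :=
      ((h30 M hM K hK hK1).2.2 X hXK (by rw [hXc]; exact hq)).2.2 L hL hNL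
    have hCL : Subgroup.centralizer ({a} : Set G) ≤ L := by
      intro c hc'
      apply hNL
      apply Subgroup.centralizer_le_normalizer
      rw [Subgroup.mem_centralizer_iff]
      intro x hx
      obtain ⟨i, rfl⟩ := Subgroup.mem_zpowers_iff.mp hx
      have hca : Commute c a := (Subgroup.mem_centralizer_singleton_iff.mp hc')
      exact ((hca.pow_right k).zpow_right i).eq.symm
    have hLN₁ : L = N₁ := huniq L hL hCL
    have hqσ : q ∈ Cfsg.sigma N' :=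
      mem_sigma_of_dvd_sigmaCore hG hN' hq (dvd_trans hqd (Subgroup.orderOf_dvd_natCard _ ha))
    apply sigma_disjoint_of_spec hG hN' hN₁ ha ha1 haN₁ hc q hqσ
    rw [← hLN₁]
    apply mem_sigma_of_dvd_sigmaCore hG hL hq
    rw [← hXc]
    exact Subgroup.card_dvd_of_le hXL

end pair2

end Cfsg.Agent.H2.BG14
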