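import Mathlib
import Cfsg.Agent.H2.BG14.D
import Cfsg.Agent.Lib.Helper4.BG14F
import Cfsg.Agent.S1429
import Cfsg.Agent.S1428
import Cfsg.Agent.S1415

/-!
# B&G Section 14 (helper2), part E: the setting (P) of S1367–S1369, S1434
(`M = K U M_σ`, `K ≠ 1`, partner `M*` given), the pair count, S1368, S1434, S1369.

Conditional on `Hyp1430 G`, `Hyp1431 G` and (for S1368, S1434) helper4's `HypT G` (Theorem T).
-/

set_option autoImplicit false
set_option linter.unusedVariables false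
set_option linter.unusedSectionVars false
set_option linter.style.haveILetI false
set_option maxHeartbeats 1000000

open scoped commutatorElement Pointwise

namespace Cfsg.Agent.H2.BG14

open Cfsg Cfsg.Agent.Lib.Helper8.BGTen Cfsg.Agent.H2.BG11

universe u

variable {G : Type u} [Group G] [Finite G]

/-- the setting (P) -/
structure SetP (M K U Mstar : Subgroup G) : Prop where
  hM : IsCoatom M
  hKU : Cfsg.IsSigmaDecomposition M K U
  hK1 : K ≠ ⊥
  hMs : IsCoatom Mstar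
  hKst : K = Cfsg.sigmaCore Mstar ⊓ Subgroup.centralizer ((Ks M K : Subgroup G) : Set G)
  hKstH : Cfsg.IsPiHallOf (Cfsg.kappa Mstar) (Ks M K) Mstar

namespace SetP

variable {M K U Mstar : Subgroup G}

theorem hK (h : SetP M K U Mstar) : Cfsg.IsPiHallOf (Cfsg.kappa M) K M := h.hKU.hall

theorem Kst1 (h30 : Hyp1430 G) (h : SetP M K U Mstar) : Ks M K ≠ ⊥ :=
  Ks_ne_bot h30 h.hM h.hK h.hK1

theorem Ks_Ks (h : SetP M K U Mstar) : Ks Mstar (Ks M K) = K := h.hKst.symm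

theorem K_le (h : SetP M K U Mstar) : K ≤ Cfsg.sigmaCore Mstar := by
  have := h.hKst
  intro x hx
  rw [this] at hx
  exact hx.1

theorem not_conj (hG : Cfsg.IsMinSimpleOddOrder G) (h : SetP M K U Mstar) (g : G) :
    Mstar ≠ M.map (MulAut.conj g).toMonoidHom := by
  intro he
  have hσ : Cfsg.sigma Mstar = Cfsg.sigma M := by
    rw [he]
    exact sigma_cj g M
  obtain ⟨p, hpf, P, hPK, hPc⟩ := Cfsg.Agent.Lib.Helper4.BG13.exists_prime_card_le h.hK1
  have hd : p ∣ Nat.card ↥K := by rw [← hPc]; exact Subgroup.card_dvd_of_le hPK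
  have h1 : p ∈ Cfsg.kappa M := prime_mem_kappa h.hK hpf.out hd
  have h2 : p ∈ Cfsg.sigma Mstar :=
    mem_sigma_of_dvd_sigmaCore hG h.hMs hpf.out (dvd_trans hd (Subgroup.card_dvd_of_le h.K_le))
  rw [hσ] at h2
  exact h1.2.2.1 h2

theorem sigma_disj (hG : Cfsg.IsMinSimpleOddOrder G) (h : SetP M K U Mstar) :
    ∀ t : ℕ, t ∈ Cfsg.sigma M → t ∉ Cfsg.sigma Mstar := by
  intro t h1 h2
  obtain ⟨g, hg⟩ := (Cfsg.Agent.S1378.result hG).2 M Mstar h.hM h.hMs ⟨t, h1, h2⟩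
  exact h.not_conj hG g hg

theorem sigmaCore_inf (hG : Cfsg.IsMinSimpleOddOrder G) (h : SetP M K U Mstar) :
    Cfsg.sigmaCore M ⊓ Cfsg.sigmaCore Mstar = ⊥ := by
  apply (Subgroup.disjoint_of_coprime_natCard _).eq_bot
  apply Nat.coprime_of_dvd
  intro p hp h1 h2
  exact h.sigma_disj hG p (mem_sigma_of_dvd_sigmaCore hG h.hM hp h1)
    (mem_sigma_of_dvd_sigmaCore hG h.hMs hp h2)

/-- `M_σ ∩ M* = K*` -/
theorem inf_Mstar (hG : Cfsg.IsMinSimpleOddOrder G) (h30 : Hyp1430 G) (h : SetP M K U Mstar) :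
    Cfsg.sigmaCore M ⊓ Mstar = Ks M K := by
  apply le_antisymm
  · intro t ht
    obtain ⟨k, hkK, hk1⟩ := Cfsg.Agent.Lib.Helper4.BG14.exists_ne_one_of_ne_bot h.hK1
    have hkM : k ∈ M := h.hK.1 hkK
    have h1 : t * k * t⁻¹ * k⁻¹ ∈ Cfsg.sigmaCore M := by
      have h2 : k * t⁻¹ * k⁻¹ ∈ Cfsg.sigmaCore M :=
        (Subgroup.mem_normalizer_iff.mp (le_normalizer_sigmaCore M hkM) _).mp
          (Subgroup.inv_mem _ ht.1)
      have e : t * k * t⁻¹ * k⁻¹ = t * (k * t⁻¹ * k⁻¹) := by group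
      rw [e]
      exact Subgroup.mul_mem _ ht.1 h2
    have h2 : t * k * t⁻¹ * k⁻¹ ∈ Cfsg.sigmaCore Mstar := by
      have h3 : t * k * t⁻¹ ∈ Cfsg.sigmaCore Mstar :=
        (Subgroup.mem_normalizer_iff.mp (le_normalizer_sigmaCore Mstar ht.2) _).mp (h.K_le hkK)
      exact Subgroup.mul_mem _ h3 (Subgroup.inv_mem _ (h.K_le hkK))
    have h3 : t * k * t⁻¹ * k⁻¹ ∈ Cfsg.sigmaCore M ⊓ Cfsg.sigmaCore Mstar :=
      Subgroup.mem_inf.mpr ⟨h1, h2⟩
    rw [h.sigmaCore_inf hG, Subgroup.mem_bot] at h3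
    have h4 : t * k = k * t := by
      have : t * k = (t * k * t⁻¹ * k⁻¹) * (k * t) := by group
      rw [this, h3, one_mul]
    have h5 : t ∈ Cfsg.sigmaCore M ⊓ Subgroup.centralizer ({k} : Set G) :=
      Subgroup.mem_inf.mpr ⟨ht.1, Subgroup.mem_centralizer_singleton_iff.mpr h4⟩
    rw [(h30 M h.hM K h.hK h.hK1).1 k hkK hk1] at h5
    exact h5
  · exact le_inf inf_le_left h.hKstH.1

/-- `M*_σ ∩ M = K` -/
theorem inf_M (hG : Cfsg.IsMinSimpleOddOrder G) (h30 : Hyp1430 G) (h : SetP M K U Mstar) :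
    Cfsg.sigmaCore Mstar ⊓ M = K := by
  apply le_antisymm
  · intro t ht
    obtain ⟨k, hkK, hk1⟩ := Cfsg.Agent.Lib.Helper4.BG14.exists_ne_one_of_ne_bot (h.Kst1 h30)
    have hkM : k ∈ Mstar := h.hKstH.1 hkK
    have h1 : t * k * t⁻¹ * k⁻¹ ∈ Cfsg.sigmaCore Mstar := by
      have h2 : k * t⁻¹ * k⁻¹ ∈ Cfsg.sigmaCore Mstar :=
        (Subgroup.mem_normalizer_iff.mp (le_normalizer_sigmaCore Mstar hkM) _).mp
          (Subgroup.inv_mem _ ht.1)
      have e : t * k * t⁻¹ * k⁻¹ = t * (k * t⁻¹ * k⁻¹) := by group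
      rw [e]
      exact Subgroup.mul_mem _ ht.1 h2
    have h2 : t * k * t⁻¹ * k⁻¹ ∈ Cfsg.sigmaCore M := by
      have h3 : t * k * t⁻¹ ∈ Cfsg.sigmaCore M :=
        (Subgroup.mem_normalizer_iff.mp (le_normalizer_sigmaCore M ht.2) _).mp hkK.1
      exact Subgroup.mul_mem _ h3 (Subgroup.inv_mem _ hkK.1)
    have h3 : t * k * t⁻¹ * k⁻¹ ∈ Cfsg.sigmaCore M ⊓ Cfsg.sigmaCore Mstar :=
      Subgroup.mem_inf.mpr ⟨h2, h1⟩
    rw [h.sigmaCore_inf hG, Subgroup.mem_bot] at h3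
    have h4 : t * k = k * t := by
      have : t * k = (t * k * t⁻¹ * k⁻¹) * (k * t) := by group
      rw [this, h3, one_mul]
    have h5 : t ∈ Cfsg.sigmaCore Mstar ⊓ Subgroup.centralizer ({k} : Set G) :=
      Subgroup.mem_inf.mpr ⟨ht.1, Subgroup.mem_centralizer_singleton_iff.mpr h4⟩
    rw [(h30 Mstar h.hMs (Ks M K) h.hKstH (h.Kst1 h30)).1 k hkK hk1] at h5
    have h6 : t ∈ Ks Mstar (Ks M K) := h5
    rw [h.Ks_Ks] at h6
    exact h6
  · exact le_inf h.K_le h.hK.1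

theorem Z_le (h : SetP M K U Mstar) : K ⊔ Ks M K ≤ M ⊓ Mstar :=
  sup_le (le_inf h.hK.1 (h.K_le.trans (sigmaCore_le Mstar)))
    (le_inf (inf_le_left.trans (sigmaCore_le M)) h.hKstH.1)

/-- `M ∩ M* = K K*` -/
theorem inf_eq (hG : Cfsg.IsMinSimpleOddOrder G) (h30 : Hyp1430 G) (h : SetP M K U Mstar) :
    M ⊓ Mstar = K ⊔ Ks M K := by
  apply le_antisymm _ h.Z_le
  have hconj : ∀ f ∈ M ⊓ Mstar, ∀ k ∈ K, f * k * f⁻¹ ∈ K := by
    intro f hf k hk
    rw [← h.inf_M hG h30]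
    refine Subgroup.mem_inf.mpr ⟨?_, ?_⟩
    · exact (Subgroup.mem_normalizer_iff.mp (le_normalizer_sigmaCore Mstar hf.2) _).mp (h.K_le hk)
    · exact M.mul_mem (M.mul_mem hf.1 (h.hK.1 hk)) (M.inv_mem hf.1)
  intro f hf
  obtain ⟨p, hpf, X, hXK, hXc⟩ := Cfsg.Agent.Lib.Helper4.BG13.exists_prime_card_le h.hK1
  rw [← ((h30 M h.hM K h.hK h.hK1).2.2 X hXK (by rw [hXc]; exact hpf.out)).2.1]
  refine Subgroup.mem_inf.mpr ⟨hf.1, ?_⟩
  rw [Subgroup.mem_normalizer_iff]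
  intro k
  constructor
  · exact hconj f hf k
  · intro hk
    have := hconj f⁻¹ ((M ⊓ Mstar).inv_mem hf) _ hk
    have e : f⁻¹ * (f * k * f⁻¹) * f⁻¹⁻¹ = k := by group
    rwa [e] at this

/-- `K*` is a Hall `σ(M)`-subgroup of `M*` -/
theorem hall_sigma (hG : Cfsg.IsMinSimpleOddOrder G) (h30 : Hyp1430 G) (h31 : Hyp1431 G)
    (h : SetP M K U Mstar) : Cfsg.IsPiHallOf (Cfsg.sigma M) (Ks M K) Mstar := by
  have hsolv : Group.IsSolvable ↥Mstar := hG.2.2.2 Mstar h.hMs.1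
  obtain ⟨Y, hY, -, hKY⟩ := Cfsg.Agent.H1.coprime_hall_contain (⊥ : Subgroup G) Mstar (Ks M K)
    (Cfsg.sigma M) bot_le (by rw [Subgroup.card_bot]; exact Nat.coprime_one_left _) hsolv
    h.hKstH.1 bot_le (fun p hp hd => prime_mem_sigma hG h.hM hp hd)
  have hYσ : Y ≤ Cfsg.sigmaCore M := by
    apply (h31 M h.hM K h.hK h.hK1).2.2.2 Y hY.2.1
    rw [inf_eq_right.mpr hKY]
    exact h.Kst1 h30
  have hYK : Y = Ks M K := by
    apply le_antisymm _ hKY
    rw [← h.inf_Mstar hG h30]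
    exact le_inf hYσ hY.1
  rw [← hYK]
  exact hY

/-- `C_G(x) ≤ M*` for `x ∈ K^#` -/
theorem centralizer_le_Mstar (h30 : Hyp1430 G) (h31 : Hyp1431 G) (h : SetP M K U Mstar) {x : G}
    (hx : x ∈ K) (hx1 : x ≠ 1) : Subgroup.centralizer ({x} : Set G) ≤ Mstar := by
  apply centralizer_le_of_mem_Ks h31 h.hMs h.hKstH (h.Kst1 h30) _ hx1
  rw [h.Ks_Ks]
  exact hx

/-- `C_G(y) ≤ M` for `y ∈ K*^#` -/
theorem centralizer_le_M (h31 : Hyp1431 G) (h : SetP M K U Mstar) {y : G}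
    (hy : y ∈ Ks M K) (hy1 : y ≠ 1) : Subgroup.centralizer ({y} : Set G) ≤ M :=
  centralizer_le_of_mem_Ks h31 h.hM h.hK h.hK1 hy hy1

end SetP

/-- a subgroup of prime order of `⟨a⟩` -/
theorem exists_prime_zpowers {a : G} (ha1 : a ≠ 1) :
    ∃ X : Subgroup G, X ≤ Subgroup.zpowers a ∧ (Nat.card ↥X).Prime := by
  obtain ⟨p, hp, hpd, k, hk⟩ := exists_pow_prime_order ha1
  refine ⟨Subgroup.zpowers (a ^ k), ?_, ?_⟩
  · rw [Subgroup.zpowers_le]
    exact Subgroup.pow_mem _ (Subgroup.mem_zpowers a) k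
  · rw [Nat.card_zpowers, hk]
    exact hp

/-- `C_G(a) ≤ N_G(X)` for `X ≤ ⟨a⟩` -/
theorem centralizer_le_normalizer_of_le_zpowers {a : G} {X : Subgroup G}
    (hX : X ≤ Subgroup.zpowers a) :
    Subgroup.centralizer ({a} : Set G) ≤ Subgroup.normalizer (X : Set G) := by
  intro c hc
  apply Subgroup.centralizer_le_normalizer
  rw [Subgroup.mem_centralizer_iff]
  intro x hx
  obtain ⟨i, rfl⟩ := Subgroup.mem_zpowers_iff.mp (hX hx)
  have hca : Commute c a := (Subgroup.mem_centralizer_singleton_iff.mp hc)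
  exact (hca.zpow_right i).eq.symm

section pair3

variable {M K : Subgroup G}

/-- `C_M(x) = K K*` for `x ∈ K^#` with `K` abelian -/
theorem inf_centralizer_eq (h30 : Hyp1430 G) (hM : IsCoatom M)
    (hK : Cfsg.IsPiHallOf (Cfsg.kappa M) K M) (hK1 : K ≠ ⊥)
    (hKab : ∀ a ∈ K, ∀ b ∈ K, a * b = b * a) {x : G} (hx : x ∈ K) (hx1 : x ≠ 1) :
    M ⊓ Subgroup.centralizer ({x} : Set G) = K ⊔ Ks M K := by
  apply le_antisymm
  · obtain ⟨X, hXx, hXp⟩ := exists_prime_zpowers hx1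
    have hXK : X ≤ K := hXx.trans (Subgroup.zpowers_le.mpr hx)
    rw [← ((h30 M hM K hK hK1).2.2 X hXK hXp).1]
    exact inf_le_inf_left M (centralizer_le_normalizer_of_le_zpowers hXx)
  · apply le_inf (sup_le hK.1 (inf_le_left.trans (sigmaCore_le M)))
    apply sup_le
    · intro a ha
      rw [Subgroup.mem_centralizer_singleton_iff]
      exact hKab a ha x hx
    · intro b hb
      rw [Subgroup.mem_centralizer_singleton_iff]
      exact (comm_K_Ks hx hb).symm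

/-- `K* < M_σ`, quantitatively -/
theorem three_mul_card_Ks_le (hG : Cfsg.IsMinSimpleOddOrder G) (h30 : Hyp1430 G)
    (h31 : Hyp1431 G) (hM : IsCoatom M) (hK : Cfsg.IsPiHallOf (Cfsg.kappa M) K M)
    (hK1 : K ≠ ⊥) : 3 * Nat.card ↥(Ks M K) ≤ Nat.card ↥(Cfsg.sigmaCore M) := by
  have hKs1 := Ks_ne_bot h30 hM hK hK1
  obtain ⟨p, hpf, P, hPK, hPc⟩ := Cfsg.Agent.Lib.Helper4.BG13.exists_prime_card_le hKs1
  have hd : p ∣ Nat.card ↥(Ks M K) := by rw [← hPc]; exact Subgroup.card_dvd_of_le hPK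
  obtain ⟨S⟩ := (inferInstance : Nonempty (Sylow p ↥(Cfsg.sigmaCore M)))
  have hS := ((h31 M hM K hK hK1).2.2.1 p hpf.out hd S).2.2
  have hle : Ks M K ≤ Cfsg.sigmaCore M := inf_le_left
  have hne : Nat.card ↥(Ks M K) ≠ Nat.card ↥(Cfsg.sigmaCore M) := by
    intro he
    apply hS
    have : Ks M K = Cfsg.sigmaCore M := Subgroup.eq_of_le_of_card_ge hle he.ge
    change _ ≤ Ks M K
    rw [this]
    exact Subgroup.map_subtype_le _
  obtain ⟨d, hd'⟩ := Subgroup.card_dvd_of_le hle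
  have hodd : Odd (Nat.card ↥(Cfsg.sigmaCore M)) := odd_card_subgroup hG _
  have hpos : 0 < Nat.card ↥(Ks M K) := Nat.card_pos
  rw [hd'] at hne hodd ⊢
  have hd1 : d ≠ 1 := by
    intro h1
    rw [h1, mul_one] at hne
    exact hne rfl
  have hd0 : d ≠ 0 := by
    intro h0
    rw [h0, mul_zero] at hodd
    exact absurd hodd (by decide)
  have hdodd : Odd d := (Nat.odd_mul.mp hodd).2
  obtain ⟨i, hi⟩ := hdodd
  have : 3 ≤ d := by omega
  calc 3 * Nat.card ↥(Ks M K) ≤ d * Nat.card ↥(Ks M K) := Nat.mul_le_mul_right _ this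
    _ = Nat.card ↥(Ks M K) * d := mul_comm _ _

end pair3

/-- the arithmetic of the pair count -/
theorem cnt_arith {g i i' k k' m m' z : ℕ} (h1 : i * (k * m) = g) (h2 : i' * (k' * m') = g)
    (hz : k * k' * z = (k - 1) * (k' - 1) * g) (hs : (m - 1) * i + (m' - 1) * i' + z ≤ g)
    (hm : 3 * k' ≤ m) (hm' : 3 * k ≤ m') (hk : 1 ≤ k) (hk' : 1 ≤ k') (hg : 0 < g) : False := by
  have hm1 : m - 1 + 1 = m := by omega
  have hm1' : m' - 1 + 1 = m' := by omega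
  have e1 : k * k' * ((m - 1) * i) + k * k' * i = k' * g := by
    calc k * k' * ((m - 1) * i) + k * k' * i = k' * (i * (k * (m - 1 + 1))) := by ring
      _ = k' * g := by rw [hm1, h1]
  have e2 : k * k' * ((m' - 1) * i') + k * k' * i' = k * g := by
    calc k * k' * ((m' - 1) * i') + k * k' * i' = k * (i' * (k' * (m' - 1 + 1))) := by ring
      _ = k * g := by rw [hm1', h2]
  have e3 : (k - 1) * (k' - 1) * g + k * g + k' * g = k * k' * g + g := by
    obtain ⟨a, rfl⟩ : ∃ a, k = a + 1 := ⟨k - 1, by omega⟩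
    obtain ⟨b, rfl⟩ : ∃ b, k' = b + 1 := ⟨k' - 1, by omega⟩
    have ea : a + 1 - 1 = a := by omega
    have eb : b + 1 - 1 = b := by omega
    rw [ea, eb]
    ring
  have hs' : k * k' * ((m - 1) * i) + k * k' * ((m' - 1) * i') + k * k' * z ≤ k * k' * g := by
    calc k * k' * ((m - 1) * i) + k * k' * ((m' - 1) * i') + k * k' * z
        = k * k' * ((m - 1) * i + (m' - 1) * i' + z) := by ring
      _ ≤ k * k' * g := Nat.mul_le_mul_left _ hs
  have hD : 3 * (k * k' * i) ≤ g := by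
    calc 3 * (k * k' * i) = i * (k * (3 * k')) := by ring
      _ ≤ i * (k * m) := Nat.mul_le_mul_left _ (Nat.mul_le_mul_left _ hm)
      _ = g := h1
  have hE : 3 * (k * k' * i') ≤ g := by
    calc 3 * (k * k' * i') = i' * (k' * (3 * k)) := by ring
      _ ≤ i' * (k' * m') := Nat.mul_le_mul_left _ (Nat.mul_le_mul_left _ hm')
      _ = g := h2
  rw [hz] at hs'
  generalize k * k' * ((m - 1) * i) = A at *
  generalize k * k' * ((m' - 1) * i') = B at *
  generalize k * k' * i = P at *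
  generalize k * k' * i' = Q at *
  generalize (k - 1) * (k' - 1) * g = C at *
  generalize k * k' * g = T at *
  generalize k * g = V at *
  generalize k' * g = W at *
  omega

namespace SetP

variable {M K U Mstar : Subgroup G}

/-- **the pair count**: `M` and `M*` cannot both be of type `P₁` -/
theorem cnt (hG : Cfsg.IsMinSimpleOddOrder G) (h30 : Hyp1430 G) (h31 : Hyp1431 G)
    (h : SetP M K U Mstar)
    (hcM : Nat.card ↥M = Nat.card ↥K * Nat.card ↥(Cfsg.sigmaCore M))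
    (hcMs : Nat.card ↥Mstar = Nat.card ↥(Ks M K) * Nat.card ↥(Cfsg.sigmaCore Mstar)) : False := by
  set A : Set G := Cfsg.tildeOf M ((Cfsg.sigmaCore M : Set G) \ {1}) with hA
  set B : Set G := Cfsg.tildeOf Mstar ((Cfsg.sigmaCore Mstar : Set G) \ {1}) with hB
  set C : Set G := ZhatG M K with hC
  have hAB : Disjoint A B := by
    rw [Set.disjoint_iff_inter_eq_empty]
    exact tilde_disjoint hG h.hM h.hMs (h.not_conj hG)
  have hCA : ∀ N : Subgroup G, IsCoatom N →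
      Disjoint C (Cfsg.tildeOf N ((Cfsg.sigmaCore N : Set G) \ {1})) := by
    intro N hN
    rw [Set.disjoint_left]
    rintro a ⟨y, z, hz, rfl⟩ ha
    exact conj_Zhat_not_mem_tilde hG h30 h31 h.hM h.hK h.hK1 hN y hz ha
  have hABC : Disjoint (A ∪ B) C := by
    rw [Set.disjoint_union_left]
    exact ⟨(hCA M h.hM).symm, (hCA Mstar h.hMs).symm⟩
  have hle : Set.ncard (A ∪ B ∪ C) ≤ Nat.card G := by
    rw [← Set.ncard_univ]
    exact Set.ncard_le_ncard (Set.subset_univ _)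
  rw [Set.ncard_union_eq hABC, Set.ncard_union_eq hAB, hA, hB,
    Cfsg.Agent.S1377.result hG M h.hM, Cfsg.Agent.S1377.result hG Mstar h.hMs] at hle
  have hz := card_ZhatG hG h31 h.hM h.hK h.hK1
  have hm := three_mul_card_Ks_le hG h30 h31 h.hM h.hK h.hK1
  have hm' := three_mul_card_Ks_le hG h30 h31 h.hMs h.hKstH (h.Kst1 h30)
  rw [h.Ks_Ks] at hm'
  have hi : M.index * (Nat.card ↥K * Nat.card ↥(Cfsg.sigmaCore M)) = Nat.card G := by
    rw [← hcM]
    exact Subgroup.index_mul_card M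
  have hi' : Mstar.index * (Nat.card ↥(Ks M K) * Nat.card ↥(Cfsg.sigmaCore Mstar)) =
      Nat.card G := by
    rw [← hcMs]
    exact Subgroup.index_mul_card Mstar
  exact cnt_arith hi hi' hz hle hm hm' Nat.card_pos Nat.card_pos Nat.card_pos

end SetP

theorem orderOf_conj_elt (g z : G) : orderOf (g * z * g⁻¹) = orderOf z := by
  have := (MulAut.conj g).orderOf_eq z
  rwa [MulAut.conj_apply] at this

/-- the order of `M` from a standard factorisation -/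
theorem card_of_sigmaDecomposition (hG : Cfsg.IsMinSimpleOddOrder G) {M K U : Subgroup G}
    (hM : IsCoatom M) (hKU : Cfsg.IsSigmaDecomposition M K U) :
    Nat.card ↥M = Nat.card ↥U * (Nat.card ↥K * Nat.card ↥(Cfsg.sigmaCore M)) := by
  rw [Cfsg.Agent.Lib.BG127H7.card_of_isComplIn hKU.compl]
  congr 1
  have hK := hKU.hall
  have hKn : K ≤ Subgroup.normalizer (Cfsg.sigmaCore M : Set G) :=
    hK.1.trans (le_normalizer_sigmaCore M)
  have hdisj : K ⊓ Cfsg.sigmaCore M = ⊥ := by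
    apply (Subgroup.disjoint_of_coprime_natCard _).eq_bot
    apply Nat.coprime_of_dvd
    intro p hp h1 h2
    exact (prime_mem_kappa hK hp h1).2.2.1 (mem_sigma_of_dvd_sigmaCore hG hM hp h2)
  apply Cfsg.Agent.Lib.BG127H7.card_of_isComplIn
  refine ⟨le_sup_left, le_sup_right, hdisj, ?_⟩
  intro m hm
  rw [sup_comm] at hm
  obtain ⟨n, hn, a, ha, rfl⟩ :=
    (Cfsg.Agent.H1.mem_sup_of_le_normalizer (Cfsg.sigmaCore M) K hKn).mp hm
  refine ⟨a, ha, a⁻¹ * n * a, ?_, by group⟩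
  have := (Subgroup.mem_normalizer_iff.mp (hKn (K.inv_mem ha)) n).mp hn
  rwa [inv_inv] at this

theorem card_of_sigmaDecomposition_bot (hG : Cfsg.IsMinSimpleOddOrder G) {M K : Subgroup G}
    (hM : IsCoatom M) (hKU : Cfsg.IsSigmaDecomposition M K ⊥) :
    Nat.card ↥M = Nat.card ↥K * Nat.card ↥(Cfsg.sigmaCore M) := by
  rw [card_of_sigmaDecomposition hG hM hKU, Subgroup.card_bot, one_mul]

/-- existence of a nontrivial Hall `κ(H)`-subgroup -/
theorem exists_hall_kappa (hG : Cfsg.IsMinSimpleOddOrder G) {H : Subgroup G} (hH : IsCoatom H)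
    (hκ : (Cfsg.kappa H).Nonempty) :
    ∃ KH : Subgroup G, Cfsg.IsPiHallOf (Cfsg.kappa H) KH H ∧ KH ≠ ⊥ := by
  have hsolv : Group.IsSolvable ↥H := hG.2.2.2 H hH.1
  obtain ⟨Y, hY, -, -⟩ := Cfsg.Agent.H1.coprime_hall_contain (⊥ : Subgroup G) H ⊥
    (Cfsg.kappa H) bot_le (by rw [Subgroup.card_bot]; exact Nat.coprime_one_left _) hsolv
    bot_le bot_le (fun p hp hd => by
      rw [Subgroup.card_bot] at hd
      exact absurd (Nat.dvd_one.mp hd) hp.one_lt.ne')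
  refine ⟨Y, hY, ?_⟩
  obtain ⟨p, hp⟩ := hκ
  intro h0
  subst h0
  have h1 : ¬ p ∣ (⊥ : Subgroup G).relIndex H := hY.2.2 p hp.1 hp
  apply h1
  have h2 : Nat.card ↥H = (⊥ : Subgroup G).relIndex H * Nat.card ↥(⊥ : Subgroup G) :=
    Cfsg.Agent.H1.card_eq_relIndex_mul_card hY.1
  rw [Subgroup.card_bot, mul_one] at h2
  rw [← h2]
  exact hp.2.1

section pair4

variable {M K : Subgroup G}

/-- the `K*`-component of an element of `Ẑ` is a power of it -/
theorem mem_zpowers_of_mem_Zhat (hG : Cfsg.IsMinSimpleOddOrder G) (hM : IsCoatom M)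
    (hK : Cfsg.IsPiHallOf (Cfsg.kappa M) K M) {x y : G} (hx : x ∈ K) (hy : y ∈ Ks M K) :
    y ∈ Subgroup.zpowers (x * y) := by
  have hcop : (Nat.card ↥K).Coprime (orderOf y) :=
    Nat.Coprime.coprime_dvd_right (Subgroup.orderOf_dvd_natCard _ hy) (coprime_K_Ks hG hM hK)
  obtain ⟨m, hm⟩ := exists_pow_eq_self_of_coprime (x := y) (n := Nat.card ↥K) hcop
  have h2 : ((x * y) ^ Nat.card ↥K) ^ m ∈ Subgroup.zpowers (x * y) :=
    Subgroup.pow_mem _ (Subgroup.pow_mem _ (Subgroup.mem_zpowers (x * y)) _) _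
  rw [pow_card_K hx hy, hm] at h2
  exact h2

end pair4

namespace SetP

variable {M K U Mstar : Subgroup G}

/-- **S1369, part 1** -/
theorem not_both_P1 (hG : Cfsg.IsMinSimpleOddOrder G) (h30 : Hyp1430 G) (h31 : Hyp1431 G)
    (h : SetP M K U Mstar) :
    U ≠ ⊥ ∨ ∀ Ustar : Subgroup G, Cfsg.IsSigmaDecomposition Mstar (Ks M K) Ustar → Ustar ≠ ⊥ := by
  by_contra hcon
  push Not at hcon
  obtain ⟨hU, Ustar, hUs, hUs1⟩ := hcon
  have hKU := h.hKU
  rw [hU] at hKU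
  rw [hUs1] at hUs
  exact h.cnt hG h30 h31 (card_of_sigmaDecomposition_bot hG h.hM hKU)
    (card_of_sigmaDecomposition_bot hG h.hMs hUs)

/-- **S1369, part 2** -/
theorem conj_of_kappa_nonempty (hG : Cfsg.IsMinSimpleOddOrder G) (h30 : Hyp1430 G)
    (h31 : Hyp1431 G) (h : SetP M K U Mstar) {H : Subgroup G} (hH : IsCoatom H)
    (hκ : (Cfsg.kappa H).Nonempty) :
    ∃ g : G, H = M.map (MulAut.conj g).toMonoidHom ∨ H = Mstar.map (MulAut.conj g).toMonoidHom := by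
  obtain ⟨KH, hKH, hKH1⟩ := exists_hall_kappa hG hH hκ
  have d1 := density_ZhatG hG h30 h31 hH hKH hKH1
  have d2 := density_ZhatG hG h30 h31 h.hM h.hK h.hK1
  -- the two sets of conjugates meet
  have hmeet : ¬ Disjoint (ZhatG H KH) (ZhatG M K) := by
    intro hd
    have hle : Set.ncard (ZhatG H KH ∪ ZhatG M K) ≤ Nat.card G := by
      rw [← Set.ncard_univ]
      exact Set.ncard_le_ncard (Set.subset_univ _)
    rw [Set.ncard_union_eq hd] at hle
    omega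
  rw [Set.not_disjoint_iff] at hmeet
  obtain ⟨a, ⟨g, z, hz, rfl⟩, ⟨g', z', hz', he⟩⟩ := hmeet
  obtain ⟨x, hx, hx1, y, hy, hy1, rfl⟩ := (mem_Zhat_iff hG hH hKH).mp hz
  -- a prime `q` of `o(y)`
  obtain ⟨q, hq, hqd, hqσ⟩ := exists_prime_sigma_of_mem hG hH hy.1 hy1
  have h1 : orderOf y ∣ orderOf (x * y) :=
    orderOf_dvd_of_mem_zpowers (mem_zpowers_of_mem_Zhat hG hH hKH hx hy)
  have h2 : orderOf (x * y) = orderOf z' := by
    rw [← orderOf_conj_elt g (x * y), he, orderOf_conj_elt]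
  have h3 : orderOf z' ∣ Nat.card ↥K * Nat.card ↥(Ks M K) := by
    rw [← card_sup_of_comm (fun a ha b hb => comm_K_Ks ha hb) (K_inf_Ks hG h.hM h.hK)]
    exact Subgroup.orderOf_dvd_natCard _ hz'.1
  have h4 : q ∣ Nat.card ↥K * Nat.card ↥(Ks M K) :=
    dvd_trans hqd (dvd_trans h1 (h2 ▸ h3))
  rcases (Nat.Prime.dvd_mul hq).mp h4 with h5 | h5
  · have hqs : q ∈ Cfsg.sigma Mstar :=
      mem_sigma_of_dvd_sigmaCore hG h.hMs hq (dvd_trans h5 (Subgroup.card_dvd_of_le h.K_le))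
    obtain ⟨g₀, hg₀⟩ := (Cfsg.Agent.S1378.result hG).2 Mstar H h.hMs hH ⟨q, hqs, hqσ⟩
    exact ⟨g₀, Or.inr hg₀⟩
  · have hqs : q ∈ Cfsg.sigma M := prime_mem_sigma hG h.hM hq h5
    obtain ⟨g₀, hg₀⟩ := (Cfsg.Agent.S1378.result hG).2 M H h.hM hH ⟨q, hqs, hqσ⟩
    exact ⟨g₀, Or.inl hg₀⟩

end SetP

/-- **S1369** from S1430 and S1431 -/
theorem s1369_of (hG : Cfsg.IsMinSimpleOddOrder G) (h30 : Hyp1430 G) (h31 : Hyp1431 G)
    (M : Subgroup G) (hM : IsCoatom M) (K U : Subgroup G) (hKU : Cfsg.IsSigmaDecomposition M K U) (hK1 : K ≠ ⊥) (Mstar : Subgroup G) (hMstar : IsCoatom Mstar)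
    (hKst : K = Cfsg.sigmaCore Mstar ⊓ Subgroup.centralizer ((Cfsg.sigmaCore M ⊓ Subgroup.centralizer (K : Set G)) : Set G))
    (hKstH : Cfsg.IsPiHallOf (Cfsg.kappa Mstar) (Cfsg.sigmaCore M ⊓ Subgroup.centralizer (K : Set G)) Mstar) :
    (U ≠ ⊥ ∨ ∀ Ustar : Subgroup G, Cfsg.IsSigmaDecomposition Mstar (Cfsg.sigmaCore M ⊓ Subgroup.centralizer (K : Set G)) Ustar → Ustar ≠ ⊥) ∧
      ∀ H : Subgroup G, IsCoatom H → (Cfsg.kappa H).Nonempty →
        ∃ g : G, H = M.map (MulAut.conj g).toMonoidHom ∨ H = Mstar.map (MulAut.conj g).toMonoidHom := by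
  have h : SetP M K U Mstar := ⟨hM, hKU, hK1, hMstar, hKst, hKstH⟩
  exact ⟨h.not_both_P1 hG h30 h31, fun H hH hκ => h.conj_of_kappa_nonempty hG h30 h31 hH hκ⟩

end Cfsg.Agent.H2.BG14
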