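import Mathlib
import Cfsg.Agent.H2.BG14.D
import Cfsg.Agent.S1430
import Cfsg.Agent.S1431

/-!
# B&G Section 14 (helper2), part F: `Hyp1430`, `Hyp1431` discharged; unconditional versions of
the lemmas of part D.
-/

set_option autoImplicit false
set_option linter.unusedVariables false
set_option linter.unusedSectionVars false
set_option linter.style.haveILetI false
set_option maxHeartbeats 1000000

open scoped commutatorElement Pointwise

namespace Cfsg.Agent.H2.BG14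

open Cfsg Cfsg.Agent.Lib.Helper8.BGTen Cfsg.Agent.H2.BG11

universe u

variable {G : Type u} [Group G] [Finite G]

theorem hyp1430 (hG : Cfsg.IsMinSimpleOddOrder G) : Hyp1430 G :=
  fun M hM K hK hK1 => Cfsg.Agent.S1430.result hG M hM K hK hK1

theorem hyp1431 (hG : Cfsg.IsMinSimpleOddOrder G) : Hyp1431 G :=
  fun M hM K hK hK1 => Cfsg.Agent.S1431.result hG M hM K hK hK1

variable {M K : Subgroup G}

/-- **S1379 (3b)**, unconditional: for a Hall `κ(M)`-subgroup `K ≠ 1`, no conjugate of an element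
of `Ẑ = K K* ∖ (K ∪ K*)` lies in any `Ñ` -/
theorem conj_Zhat_not_mem_tilde' (hG : Cfsg.IsMinSimpleOddOrder G) (hM : IsCoatom M)
    (hK : Cfsg.IsPiHallOf (Cfsg.kappa M) K M) (hK1 : K ≠ ⊥) {N : Subgroup G} (hN : IsCoatom N)
    (y : G) {z : G} (hz : z ∈ Zhat M K) :
    y * z * y⁻¹ ∉ Cfsg.tildeOf N ((Cfsg.sigmaCore N : Set G) \ {1}) :=
  conj_Zhat_not_mem_tilde hG (hyp1430 hG) (hyp1431 hG) hM hK hK1 hN y hz

/-- the fusion lemma, unconditional -/
theorem fusion_Zhat' (hG : Cfsg.IsMinSimpleOddOrder G) (hM : IsCoatom M)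
    (hK : Cfsg.IsPiHallOf (Cfsg.kappa M) K M) (hK1 : K ≠ ⊥) {z g : G} (hz : z ∈ Zhat M K)
    (hgz : g * z * g⁻¹ ∈ Zhat M K) : g ∈ K ⊔ Ks M K :=
  fusion_Zhat hG (hyp1431 hG) hM hK hK1 hz hgz

/-- the count of the conjugates of `Ẑ`, unconditional -/
theorem card_ZhatG' (hG : Cfsg.IsMinSimpleOddOrder G) (hM : IsCoatom M)
    (hK : Cfsg.IsPiHallOf (Cfsg.kappa M) K M) (hK1 : K ≠ ⊥) :
    Nat.card ↥K * Nat.card ↥(Ks M K) * Set.ncard (ZhatG M K) =
      (Nat.card ↥K - 1) * (Nat.card ↥(Ks M K) - 1) * Nat.card G :=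
  card_ZhatG hG (hyp1431 hG) hM hK hK1

/-- the conjugates of `Ẑ` cover more than half of `G`, unconditional -/
theorem density_ZhatG' (hG : Cfsg.IsMinSimpleOddOrder G) (hM : IsCoatom M)
    (hK : Cfsg.IsPiHallOf (Cfsg.kappa M) K M) (hK1 : K ≠ ⊥) :
    Nat.card G < 2 * Set.ncard (ZhatG M K) :=
  density_ZhatG hG (hyp1430 hG) (hyp1431 hG) hM hK hK1

end Cfsg.Agent.H2.BG14
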