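import Mathlib
import Cfsg.Agent.H2.BG14.E
import Cfsg.Agent.H2.BG12.G
import Cfsg.Agent.Lib.Helper8.BG14K

/-!
# B&G Section 14 (helper2), part G: S1368 (`M ∩ M* = K K*` cyclic) and S1434
-/

set_option autoImplicit false
set_option linter.unusedVariables false
set_option linter.unusedSectionVars false
set_option linter.style.haveILetI false
set_option maxHeartbeats 1000000

open scoped commutatorElement Pointwise

namespace Cfsg.Agent.H2.BG14

open Cfsg Cfsg.Agent.Lib.Helper8.BGTen Cfsg.Agent.H2.BG11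

universe u

variable {G : Type u} [Group G] [Finite G]

/-- a `κ(M)`-subgroup of `M` has cyclic Sylow subgroups -/
theorem isZGroup_of_kappa (hG : Cfsg.IsMinSimpleOddOrder G) {M H : Subgroup G} (hHM : H ≤ M)
    (hH : ∀ p : ℕ, p.Prime → p ∣ Nat.card ↥H → p ∈ Cfsg.kappa M) : IsZGroup ↥H := by
  constructor
  intro p hp P
  haveI : Fact p.Prime := ⟨hp⟩
  by_cases hd : p ∣ Nat.card ↥H
  · exact Cfsg.Agent.Lib.Helper4.BGTw.isCyclic_sub_of_pRankLE_one hG hHM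
      (Cfsg.Agent.Lib.Helper4.BG14.pRankLE_one_of_kappa (hH p hp hd)) (P : Subgroup ↥H) P.isPGroup'
  · obtain ⟨n, hn⟩ := P.isPGroup'.exists_card_eq
    rcases Nat.eq_zero_or_pos n with h0 | h0
    · rw [h0, pow_zero] at hn
      haveI : Subsingleton ↥(P : Subgroup ↥H) := (Nat.card_eq_one_iff_unique.mp hn).1
      exact isCyclic_of_subsingleton
    · exfalso
      apply hd
      have h1 : p ∣ Nat.card ↥(P : Subgroup ↥H) := by
        rw [hn]
        exact dvd_pow_self p h0.ne'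
      exact dvd_trans h1 (Subgroup.card_subgroup_dvd_card _)

/-- a nilpotent `κ(M)`-subgroup is cyclic -/
theorem isCyclic_of_kappa_of_nilpotent (hG : Cfsg.IsMinSimpleOddOrder G) {M H : Subgroup G}
    (hHM : H ≤ M) (hH : ∀ p : ℕ, p.Prime → p ∣ Nat.card ↥H → p ∈ Cfsg.kappa M)
    (hnil : Group.IsNilpotent ↥H) : IsCyclic ↥H := by
  haveI := isZGroup_of_kappa hG hHM hH
  haveI := hnil
  infer_instance

section pair5

variable {M K : Subgroup G}

/-- Case A (no `τ₃`-subgroup of prime order has fixed points): `K` is cyclic -/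
theorem isCyclic_of_caseA (hG : Cfsg.IsMinSimpleOddOrder G) (hM : IsCoatom M)
    (hK : Cfsg.IsPiHallOf (Cfsg.kappa M) K M)
    (hno : ∀ r ∈ Cfsg.tau3 M, ∀ R : Subgroup G, R ≤ M → Nat.card ↥R = r →
      Cfsg.sigmaCore M ⊓ Subgroup.centralizer (R : Set G) = ⊥) : IsCyclic ↥K := by
  have hκτ : ∀ q ∈ Cfsg.kappa M, q ∈ Cfsg.tau1 M := by
    intro q hq
    rcases Cfsg.Agent.Lib.Helper4.BG14.tau13_of_kappa hG hM hq with h | h
    · exact h
    · exfalso
      haveI : Fact q.Prime := ⟨hq.1⟩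
      obtain ⟨x, hx⟩ := exists_prime_orderOf_dvd_card' (G := ↥M) q hq.2.1
      have hRc : Nat.card ↥(Subgroup.zpowers (x : G)) = q := by
        rw [Nat.card_zpowers, Subgroup.orderOf_coe, hx]
      have hRM : Subgroup.zpowers (x : G) ≤ M := by rw [Subgroup.zpowers_le]; exact x.2
      exact Cfsg.Agent.Lib.Helper4.BG14.kappa_fixed hq hRM hRc (hno q h _ hRM hRc)
  have hKM := hK.1
  have hcop : (Nat.card ↥K).Coprime (Nat.card ↥(Cfsg.sigmaCore M)) := by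
    apply Nat.coprime_of_dvd
    intro q hq hd1 hd2
    exact (hK.2.1 q hq hd1).2.2.1 (mem_sigma_of_dvd_sigmaCore hG hM hq hd2)
  obtain ⟨E₀, hE₀⟩ := Cfsg.Agent.Lib.helper3.BG12.exists_compl hG hM
  obtain ⟨m, hm, hKE⟩ := Cfsg.Agent.H2.BG12.exists_cj_compl_ge hG hM hE₀ hKM hcop
  have hE := Cfsg.Agent.H2.BG12.compl_cj hE₀ hm
  generalize cj m E₀ = E at hKE hE
  have hsolvE : Group.IsSolvable ↥E :=
    Cfsg.Agent.Lib.Helper4.BG14.isSolvable_of_le_coatom hG hM hE.1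
  obtain ⟨E₁, hE₁, -, hKE₁⟩ := Cfsg.Agent.H1.coprime_hall_contain (⊥ : Subgroup G) E K
    (Cfsg.tau1 M) bot_le (by rw [Subgroup.card_bot]; exact Nat.coprime_one_left _) hsolvE hKE
    bot_le (fun q hq hd => hκτ q (hK.2.1 q hq hd))
  have hE₁c : IsCyclic ↥E₁ := (Cfsg.Agent.S1415.result hG M hM E hE).2.1 E₁ hE₁
  exact isCyclic_of_injective (Subgroup.inclusion hKE₁) (Subgroup.inclusion_injective hKE₁)

/-- Case B (Setup N): `M = M_σ K` -/
theorem card_of_caseB (hG : Cfsg.IsMinSimpleOddOrder G)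
    (hT : Cfsg.Agent.Lib.Helper4.BG14.HypT G) (hM : IsCoatom M)
    (hK : Cfsg.IsPiHallOf (Cfsg.kappa M) K M) {r : ℕ} (hr : r ∈ Cfsg.tau3 M) {R₀ : Subgroup G}
    (hR₀M : R₀ ≤ M) (hR₀c : Nat.card ↥R₀ = r)
    (hD₀ : Cfsg.sigmaCore M ⊓ Subgroup.centralizer (R₀ : Set G) ≠ ⊥) :
    Nat.card ↥M = Nat.card ↥K * Nat.card ↥(Cfsg.sigmaCore M) := by
  haveI hrf : Fact r.Prime := ⟨hr.1⟩
  have hcopR : (Nat.card ↥R₀).Coprime (Nat.card ↥(Cfsg.sigmaCore M)) := by
    rw [hR₀c, Nat.Prime.coprime_iff_not_dvd hr.1]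
    intro hd
    exact hr.2.1 (mem_sigma_of_dvd_sigmaCore hG hM hr.1 hd)
  obtain ⟨E₀, hE₀⟩ := Cfsg.Agent.Lib.helper3.BG12.exists_compl hG hM
  obtain ⟨m, hm, hRE⟩ := Cfsg.Agent.H2.BG12.exists_cj_compl_ge hG hM hE₀ hR₀M hcopR
  have hE := Cfsg.Agent.H2.BG12.compl_cj hE₀ hm
  generalize cj m E₀ = E at hRE hE
  obtain ⟨hτ2, hsemi⟩ := hT M hM E hE r hr R₀ hRE hR₀c hD₀
  have hR₀1 : R₀ ≠ ⊥ := by
    intro h0
    rw [h0, Subgroup.card_bot] at hR₀c
    exact hr.1.one_lt.ne hR₀c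
  obtain ⟨r₀, hr₀R, hr₀1⟩ := Cfsg.Agent.Lib.Helper4.BG14.exists_ne_one_of_ne_bot hR₀1
  -- `D = C_{M_σ}(E) ≠ 1`
  have hD : Cfsg.sigmaCore M ⊓ Subgroup.centralizer (E : Set G) ≠ ⊥ := by
    rw [← hsemi r₀ (hRE hr₀R) hr₀1]
    intro h0
    apply hD₀
    rw [eq_bot_iff, ← h0]
    apply inf_le_inf_left
    apply Subgroup.centralizer_le
    rw [Set.singleton_subset_iff]
    exact hr₀R
  have hcardM := Cfsg.Agent.H2.BG12.card_compl_mul hE
  -- every prime of `|E|` lies in `κ(M)`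
  have hEκ : ∀ q : ℕ, q.Prime → q ∣ Nat.card ↥E → q ∈ Cfsg.kappa M := by
    intro q hq hd
    haveI : Fact q.Prime := ⟨hq⟩
    have hqσ : q ∉ Cfsg.sigma M := Cfsg.Agent.H2.BG12.not_mem_sigma_of_dvd_compl hG hM hE hq hd
    have hqM : q ∣ Nat.card ↥M := by
      rw [hcardM]
      exact Dvd.dvd.mul_right hd _
    have hrk : Cfsg.PRankLE q 1 ↥M := by
      rcases Cfsg.Agent.H2.BG13.tau_cases hG hM hq hqM hqσ with h | h | h
      · exact h.2.2.2.2
      · exact absurd h (hτ2 q)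
      · exact h.2.2.2
    obtain ⟨x, hx⟩ := exists_prime_orderOf_dvd_card' (G := ↥E) q hd
    have hTc : Nat.card ↥(Subgroup.zpowers (x : G)) = q := by
      rw [Nat.card_zpowers, Subgroup.orderOf_coe, hx]
    have hTE : Subgroup.zpowers (x : G) ≤ E := by rw [Subgroup.zpowers_le]; exact x.2
    apply Cfsg.Agent.Lib.Helper4.BG14.mem_kappa_of_fixed hG hqσ hrk (hTE.trans hE.1) hTc
    intro h0
    apply hD
    rw [eq_bot_iff, ← h0]
    exact inf_le_inf_left _ (Subgroup.centralizer_le hTE)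
  -- `|K| = |E|`
  have hcop : (Nat.card ↥K).Coprime (Nat.card ↥(Cfsg.sigmaCore M)) := by
    apply Nat.coprime_of_dvd
    intro q hq hd1 hd2
    exact (hK.2.1 q hq hd1).2.2.1 (mem_sigma_of_dvd_sigmaCore hG hM hq hd2)
  have h1 : Nat.card ↥K ∣ Nat.card ↥E := by
    have : Nat.card ↥K ∣ Nat.card ↥E * Nat.card ↥(Cfsg.sigmaCore M) := by
      rw [← hcardM]
      exact Subgroup.card_dvd_of_le hK.1
    exact hcop.dvd_of_dvd_mul_right this
  have hrel := Cfsg.Agent.H1.card_eq_relIndex_mul_card hK.1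
  have hcop2 : (Nat.card ↥E).Coprime (K.relIndex M) := by
    apply Nat.coprime_of_dvd
    intro q hq hd1 hd2
    exact hK.2.2 q hq (hEκ q hq hd1) hd2
  have h2 : Nat.card ↥E ∣ Nat.card ↥K := by
    have : Nat.card ↥E ∣ K.relIndex M * Nat.card ↥K := by
      rw [← hrel, hcardM]
      exact Dvd.intro _ rfl
    exact hcop2.dvd_of_dvd_mul_left this
  rw [hcardM, Nat.dvd_antisymm h1 h2]

end pair5

/-- commuting cyclic subgroups of coprime orders generate a cyclic subgroup -/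
theorem isCyclic_sup_of_comm {A B : Subgroup G} (hA : IsCyclic ↥A) (hB : IsCyclic ↥B)
    (hc : ∀ a ∈ A, ∀ b ∈ B, a * b = b * a) (hcop : (Nat.card ↥A).Coprime (Nat.card ↥B)) :
    IsCyclic ↥(A ⊔ B) := by
  obtain ⟨a, ha⟩ := hA.exists_generator
  obtain ⟨b, hb⟩ := hB.exists_generator
  have hoa : orderOf (a : G) = Nat.card ↥A := by
    rw [Subgroup.orderOf_coe]
    exact orderOf_eq_card_of_forall_mem_zpowers ha
  have hob : orderOf (b : G) = Nat.card ↥B := by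
    rw [Subgroup.orderOf_coe]
    exact orderOf_eq_card_of_forall_mem_zpowers hb
  have hcomm : Commute (a : G) (b : G) := hc a a.2 b b.2
  have ho : orderOf ((a : G) * (b : G)) = Nat.card ↥A * Nat.card ↥B := by
    rw [hcomm.orderOf_mul_eq_mul_orderOf_of_coprime (by rw [hoa, hob]; exact hcop), hoa, hob]
  have hAB : A ⊓ B = ⊥ := (Subgroup.disjoint_of_coprime_natCard hcop).eq_bot
  have hmem : (a : G) * (b : G) ∈ A ⊔ B :=
    Subgroup.mul_mem _ (Subgroup.mem_sup_left a.2) (Subgroup.mem_sup_right b.2)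
  apply isCyclic_of_orderOf_eq_card (⟨(a : G) * (b : G), hmem⟩ : ↥(A ⊔ B))
  rw [Subgroup.orderOf_mk, ho, card_sup_of_comm hc hAB]

namespace SetP

variable {M K U Mstar : Subgroup G}

/-- `K*` is cyclic -/
theorem isCyclic_Ks (hG : Cfsg.IsMinSimpleOddOrder G) (h30 : Hyp1430 G) (h31 : Hyp1431 G)
    (hT : Cfsg.Agent.Lib.Helper4.BG14.HypT G) (h : SetP M K U Mstar) : IsCyclic ↥(Ks M K) := by
  by_cases hU : U = ⊥
  · by_cases hno : ∀ r ∈ Cfsg.tau3 Mstar, ∀ R : Subgroup G, R ≤ Mstar → Nat.card ↥R = r →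
        Cfsg.sigmaCore Mstar ⊓ Subgroup.centralizer (R : Set G) = ⊥
    · exact isCyclic_of_caseA hG h.hMs h.hKstH hno
    · exfalso
      push Not at hno
      obtain ⟨r, hr, R, hRM, hRc, hD⟩ := hno
      have hKU := h.hKU
      rw [hU] at hKU
      exact h.cnt hG h30 h31 (card_of_sigmaDecomposition_bot hG h.hM hKU)
        (card_of_caseB hG hT h.hMs h.hKstH hr hRM hRc hD)
  · -- `M_σ` is nilpotent
    obtain ⟨p, hpf, P, hPU, hPc⟩ := Cfsg.Agent.Lib.Helper4.BG13.exists_prime_card_le hU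
    have hp := hpf.out
    have hd : p ∣ Nat.card ↥U := by rw [← hPc]; exact Subgroup.card_dvd_of_le hPU
    have hpσ : p ∉ Cfsg.sigma M := Cfsg.Agent.H2.BG12.not_mem_sigma_of_dvd_U hG h.hM h.hKU hp hd
    have hpκ : p ∉ Cfsg.kappa M := Cfsg.Agent.H2.BG12.not_mem_kappa_of_dvd_U h.hKU hp hd
    have hpM : p ∣ Nat.card ↥M := dvd_trans hd (Subgroup.card_dvd_of_le h.hKU.compl.1)
    have hP1 : ¬ (∀ q : ℕ, q.Prime → q ∣ Nat.card ↥M → q ∉ Cfsg.sigma M → q ∈ Cfsg.kappa M) :=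
      fun hall => hpκ (hall p hp hpM hpσ)
    obtain ⟨S⟩ := (inferInstance : Nonempty (Sylow p ↥M))
    have hnil : Group.IsNilpotent ↥(Cfsg.sigmaCore M) :=
      (Cfsg.Agent.S1429.result hG M h.hM hP1 p hpM
        (by rintro (h' | h'); exact hpσ h'; exact hpκ h') S).2.2
    have hle : Ks M K ≤ Cfsg.sigmaCore M := inf_le_left
    have hnil' : Group.IsNilpotent ↥(Ks M K) := by
      haveI := hnil
      apply Subgroup.isNilpotent_of_ker_le_center (Subgroup.inclusion hle)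
      rw [(Subgroup.inclusion hle).ker_eq_bot_iff.mpr (Subgroup.inclusion_injective hle)]
      exact bot_le
    exact isCyclic_of_kappa_of_nilpotent hG h.hKstH.1 h.hKstH.2.1 hnil'

/-- `K K*` is cyclic -/
theorem isCyclic_Z (hG : Cfsg.IsMinSimpleOddOrder G) (h30 : Hyp1430 G) (h31 : Hyp1431 G)
    (hT : Cfsg.Agent.Lib.Helper4.BG14.HypT G) (h : SetP M K U Mstar) :
    IsCyclic ↥(K ⊔ Ks M K) :=
  isCyclic_sup_of_comm h.hKU.cyclic (h.isCyclic_Ks hG h30 h31 hT)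
    (fun a ha b hb => comm_K_Ks ha hb) (coprime_K_Ks hG h.hM h.hK)

end SetP

/-- **S1368** from S1430, S1431 and Theorem T -/
theorem s1368_of (hG : Cfsg.IsMinSimpleOddOrder G) (h30 : Hyp1430 G) (h31 : Hyp1431 G)
    (hT : Cfsg.Agent.Lib.Helper4.BG14.HypT G)
    (M : Subgroup G) (hM : IsCoatom M) (K U : Subgroup G) (hKU : Cfsg.IsSigmaDecomposition M K U) (hK1 : K ≠ ⊥) (Mstar : Subgroup G) (hMstar : IsCoatom Mstar)
    (hKst : K = Cfsg.sigmaCore Mstar ⊓ Subgroup.centralizer ((Cfsg.sigmaCore M ⊓ Subgroup.centralizer (K : Set G)) : Set G))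
    (hKstH : Cfsg.IsPiHallOf (Cfsg.kappa Mstar) (Cfsg.sigmaCore M ⊓ Subgroup.centralizer (K : Set G)) Mstar) :
    M ⊓ Mstar = K ⊔ (Cfsg.sigmaCore M ⊓ Subgroup.centralizer (K : Set G)) ∧ IsCyclic ↥(K ⊔ (Cfsg.sigmaCore M ⊓ Subgroup.centralizer (K : Set G))) := by
  have h : SetP M K U Mstar := ⟨hM, hKU, hK1, hMstar, hKst, hKstH⟩
  exact ⟨h.inf_eq hG h30, h.isCyclic_Z hG h30 h31 hT⟩

end Cfsg.Agent.H2.BG14
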