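import Mathlib
import Cfsg.Agent.H2.BG14.G

/-!
# B&G Section 14 (helper2), part H: S1434
-/

set_option autoImplicit false
set_option linter.unusedVariables false
set_option linter.unusedSectionVars false
set_option linter.style.haveILetI false
set_option maxHeartbeats 1000000

open scoped commutatorElement Pointwise

namespace Cfsg.Agent.H2.BG14

open Cfsg Cfsg.Agent.Lib.Helper8.BGTen Cfsg.Agent.H2.BG11

universe u

variable {G : Type u} [Group G] [Finite G]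

/-- `τ₁(M) ⊆ κ(M)` when `K ≠ 1` is a cyclic Hall `κ(M)`-subgroup with `κ(M) ⊆ τ₁(M)` -/
theorem kappa_of_tau1 (hG : Cfsg.IsMinSimpleOddOrder G) {M K : Subgroup G} (hM : IsCoatom M)
    (hK : Cfsg.IsPiHallOf (Cfsg.kappa M) K M) (hK1 : K ≠ ⊥)
    (hκτ : ∀ q ∈ Cfsg.kappa M, q ∈ Cfsg.tau1 M) {p : ℕ} (hp : p ∈ Cfsg.tau1 M) :
    p ∈ Cfsg.kappa M := by
  haveI hpf : Fact p.Prime := ⟨hp.1⟩
  have hKM := hK.1
  have hcop : (Nat.card ↥K).Coprime (Nat.card ↥(Cfsg.sigmaCore M)) := by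
    apply Nat.coprime_of_dvd
    intro q hq hd1 hd2
    exact (hK.2.1 q hq hd1).2.2.1 (mem_sigma_of_dvd_sigmaCore hG hM hq hd2)
  obtain ⟨E₀, hE₀⟩ := Cfsg.Agent.Lib.helper3.BG12.exists_compl hG hM
  obtain ⟨m, hm, hKE⟩ := Cfsg.Agent.H2.BG12.exists_cj_compl_ge hG hM hE₀ hKM hcop
  have hE := Cfsg.Agent.H2.BG12.compl_cj hE₀ hm
  generalize cj m E₀ = E at hKE hE
  have hsolvE : Group.IsSolvable ↥E :=
    Cfsg.Agent.Lib.Helper4.BG14.isSolvable_of_le_coatom hG hM hE.1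
  obtain ⟨E₁, hE₁, -, hKE₁⟩ := Cfsg.Agent.H1.coprime_hall_contain (⊥ : Subgroup G) E K
    (Cfsg.tau1 M) bot_le (by rw [Subgroup.card_bot]; exact Nat.coprime_one_left _) hsolvE hKE
    bot_le (fun q hq hd => hκτ q (hK.2.1 q hq hd))
  have hE₁c : IsCyclic ↥E₁ := (Cfsg.Agent.S1415.result hG M hM E hE).2.1 E₁ hE₁
  -- `p ∣ |E₁|`
  have hcardM := Cfsg.Agent.H2.BG12.card_compl_mul hE
  have hpE : p ∣ Nat.card ↥E := by
    have h1 : p ∣ Nat.card ↥E * Nat.card ↥(Cfsg.sigmaCore M) := hcardM ▸ hp.2.2.1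
    rcases (Nat.Prime.dvd_mul hp.1).mp h1 with h2 | h2
    · exact h2
    · exact absurd (mem_sigma_of_dvd_sigmaCore hG hM hp.1 h2) hp.2.1
  have hpE₁ : p ∣ Nat.card ↥E₁ := by
    have h1 := Cfsg.Agent.H1.card_eq_relIndex_mul_card hE₁.1
    rw [h1] at hpE
    rcases (Nat.Prime.dvd_mul hp.1).mp hpE with h2 | h2
    · exact absurd h2 (hE₁.2.2 p hp.1 hp)
    · exact h2
  obtain ⟨x, hx⟩ := exists_prime_orderOf_dvd_card' (G := ↥E₁) p hpE₁
  set T : Subgroup G := Subgroup.zpowers (x : G) with hT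
  have hTc : Nat.card ↥T = p := by
    rw [hT, Nat.card_zpowers, Subgroup.orderOf_coe, hx]
  have hTE₁ : T ≤ E₁ := by rw [hT, Subgroup.zpowers_le]; exact x.2
  -- a subgroup `Q ≤ K` of prime order
  obtain ⟨q, hqf, Q, hQK, hQc⟩ := Cfsg.Agent.Lib.Helper4.BG13.exists_prime_card_le hK1
  have hqκ : q ∈ Cfsg.kappa M :=
    hK.2.1 q hqf.out (by rw [← hQc]; exact Subgroup.card_dvd_of_le hQK)
  have hfix := Cfsg.Agent.Lib.Helper4.BG14.kappa_fixed hqκ (hQK.trans hKM) hQc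
  have hTQ : T ≤ Subgroup.centralizer (Q : Set G) := by
    intro t ht
    rw [Subgroup.mem_centralizer_iff]
    intro a ha
    letI := hE₁c.commGroup
    have := mul_comm (⟨a, hKE₁ (hQK ha)⟩ : ↥E₁) ⟨t, hTE₁ ht⟩
    exact congrArg Subtype.val this
  have h28 := Cfsg.Agent.S1428.result hG M hM E hE q (hκτ q hqκ) Q (hQK.trans hKE) hQc T
    (le_inf (hTE₁.trans hE₁.1) hTQ) (by rw [hTc]; exact hp.1)
  apply Cfsg.Agent.Lib.Helper4.BG14.mem_kappa_of_fixed hG hp.2.1 hp.2.2.2.2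
    ((hTE₁.trans hE₁.1).trans hE.1) hTc
  intro h0
  apply hfix
  rw [eq_bot_iff, ← h0]
  exact h28

namespace SetP

variable {M K U Mstar : Subgroup G}

theorem kappa_eq_tau1 (hG : Cfsg.IsMinSimpleOddOrder G) (h : SetP M K U Mstar) :
    Cfsg.kappa M = Cfsg.tau1 M := by
  ext p
  constructor
  · exact fun hp => Cfsg.Agent.Lib.Helper8.BG14K.tau1_of_kappa_of_decomp hG h.hM h.hKU hp
  · exact fun hp => kappa_of_tau1 hG h.hM h.hK h.hK1
      (fun q hq => Cfsg.Agent.Lib.Helper8.BG14K.tau1_of_kappa_of_decomp hG h.hM h.hKU hq) hp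

/-- `Z = K K*` is abelian -/
theorem comm_Z (hG : Cfsg.IsMinSimpleOddOrder G) (h30 : Hyp1430 G) (h31 : Hyp1431 G)
    (hT : Cfsg.Agent.Lib.Helper4.BG14.HypT G) (h : SetP M K U Mstar) :
    ∀ a ∈ K ⊔ Ks M K, ∀ b ∈ K ⊔ Ks M K, a * b = b * a := by
  intro a ha b hb
  letI := (h.isCyclic_Z hG h30 h31 hT).commGroup
  have := mul_comm (⟨a, ha⟩ : ↥(K ⊔ Ks M K)) ⟨b, hb⟩
  exact congrArg Subtype.val this

/-- the `K`-component of an element of `Ẑ` is a power of it -/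
theorem mem_zpowers_left (hG : Cfsg.IsMinSimpleOddOrder G) (h : SetP M K U Mstar) {x y : G}
    (hx : x ∈ K) (hy : y ∈ Ks M K) : x ∈ Subgroup.zpowers (x * y) := by
  have hcop : (Nat.card ↥(Ks M K)).Coprime (orderOf x) :=
    Nat.Coprime.coprime_dvd_right (Subgroup.orderOf_dvd_natCard _ hx)
      (coprime_K_Ks hG h.hM h.hK).symm
  obtain ⟨m, hm⟩ := exists_pow_eq_self_of_coprime (x := x) (n := Nat.card ↥(Ks M K)) hcop
  have h2 : ((x * y) ^ Nat.card ↥(Ks M K)) ^ m ∈ Subgroup.zpowers (x * y) :=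
    Subgroup.pow_mem _ (Subgroup.pow_mem _ (Subgroup.mem_zpowers (x * y)) _) _
  rw [pow_card_Ks hx hy, hm] at h2
  exact h2

/-- the centralizer clauses of S1434 -/
theorem centralizers (hG : Cfsg.IsMinSimpleOddOrder G) (h30 : Hyp1430 G) (h31 : Hyp1431 G)
    (hT : Cfsg.Agent.Lib.Helper4.BG14.HypT G) (h : SetP M K U Mstar) {x y : G}
    (hx : x ∈ K) (hx1 : x ≠ 1) (hy : y ∈ Ks M K) (hy1 : y ≠ 1) :
    M ⊓ Subgroup.centralizer ({x} : Set G) = K ⊔ Ks M K ∧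
    Mstar ⊓ Subgroup.centralizer ({y} : Set G) = K ⊔ Ks M K ∧
    Subgroup.centralizer ({x * y} : Set G) = K ⊔ Ks M K := by
  have hab := h.comm_Z hG h30 h31 hT
  refine ⟨?_, ?_, ?_⟩
  · exact inf_centralizer_eq h30 h.hM h.hK h.hK1
      (fun a ha b hb => hab a (Subgroup.mem_sup_left ha) b (Subgroup.mem_sup_left hb)) hx hx1
  · have := inf_centralizer_eq h30 h.hMs h.hKstH (h.Kst1 h30)
      (fun a ha b hb => hab a (Subgroup.mem_sup_right ha) b (Subgroup.mem_sup_right hb)) hy hy1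
    rw [h.Ks_Ks, sup_comm] at this
    exact this
  · apply le_antisymm
    · intro c hc
      have hcz : ∀ w ∈ Subgroup.zpowers (x * y), c * w = w * c := by
        intro w hw
        obtain ⟨i, rfl⟩ := Subgroup.mem_zpowers_iff.mp hw
        have hcc : Commute c (x * y) := Subgroup.mem_centralizer_singleton_iff.mp hc
        exact (hcc.zpow_right i).eq
      have hcx : c ∈ Subgroup.centralizer ({x} : Set G) :=
        Subgroup.mem_centralizer_singleton_iff.mpr (hcz x (h.mem_zpowers_left hG hx hy))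
      have hcy : c ∈ Subgroup.centralizer ({y} : Set G) :=
        Subgroup.mem_centralizer_singleton_iff.mpr
          (hcz y (mem_zpowers_of_mem_Zhat hG h.hM h.hK hx hy))
      rw [← h.inf_eq hG h30]
      exact Subgroup.mem_inf.mpr ⟨h.centralizer_le_M h31 hy hy1 hcy,
        h.centralizer_le_Mstar h30 h31 hx hx1 hcx⟩
    · intro c hc
      rw [Subgroup.mem_centralizer_singleton_iff]
      exact hab c hc (x * y)
        (Subgroup.mul_mem _ (Subgroup.mem_sup_left hx) (Subgroup.mem_sup_right hy))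

/-- `Ẑ ∩ M^g = ∅` for `g ∉ M` -/
theorem Zhat_not_mem_cj (hG : Cfsg.IsMinSimpleOddOrder G) (h31 : Hyp1431 G)
    (h : SetP M K U Mstar) {g : G} (hg : g ∉ M) {z : G} (hz : z ∈ Zhat M K) :
    z ∉ M.map (MulAut.conj g).toMonoidHom := by
  intro hzg
  obtain ⟨x, hx, hx1, y, hy, hy1, rfl⟩ := (mem_Zhat_iff hG h.hM h.hK).mp hz
  have hyz := mem_zpowers_of_mem_Zhat hG h.hM h.hK hx hy
  have hyg : y ∈ M.map (MulAut.conj g).toMonoidHom := (Subgroup.zpowers_le.mpr hzg) hyz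
  have h1 := (h31 M h.hM K h.hK h.hK1).1 g hg
  have h2 : y ∈ Ks M K ⊓ M.map (MulAut.conj g).toMonoidHom := Subgroup.mem_inf.mpr ⟨hy, hyg⟩
  rw [h1, Subgroup.mem_bot] at h2
  exact hy1 h2

end SetP

theorem card_identity {k l : ℕ} (hk : 2 ≤ k) (hl : 2 ≤ l) :
    (k - 1) * (l - 1) = k * l - k - l + 1 := by
  obtain ⟨a, rfl⟩ : ∃ a, k = a + 1 := ⟨k - 1, by omega⟩
  obtain ⟨b, rfl⟩ : ∃ b, l = b + 1 := ⟨l - 1, by omega⟩
  have e : (a + 1) * (b + 1) = a * b + a + b + 1 := by ring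
  have ea : a + 1 - 1 = a := by omega
  have eb : b + 1 - 1 = b := by omega
  have hab : 1 ≤ a * b := Nat.mul_pos (by omega) (by omega)
  rw [e, ea, eb]
  generalize a * b = P at hab ⊢
  omega

/-- **S1434** from S1430, S1431 and Theorem T -/
theorem s1434_of (hG : Cfsg.IsMinSimpleOddOrder G) (h30 : Hyp1430 G) (h31 : Hyp1431 G)
    (hT : Cfsg.Agent.Lib.Helper4.BG14.HypT G)
    (M : Subgroup G) (hM : IsCoatom M) (K U : Subgroup G) (hKU : Cfsg.IsSigmaDecomposition M K U) (hK1 : K ≠ ⊥) (Mstar : Subgroup G) (hMstar : IsCoatom Mstar)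
    (hKst : K = Cfsg.sigmaCore Mstar ⊓ Subgroup.centralizer ((Cfsg.sigmaCore M ⊓ Subgroup.centralizer (K : Set G)) : Set G))
    (hKstH : Cfsg.IsPiHallOf (Cfsg.kappa Mstar) (Cfsg.sigmaCore M ⊓ Subgroup.centralizer (K : Set G)) Mstar) :
    Cfsg.kappa M = Cfsg.tau1 M ∧ Cfsg.IsPiHallOf (Cfsg.sigma M) (Cfsg.sigmaCore M ⊓ Subgroup.centralizer (K : Set G)) Mstar ∧
      (∀ x ∈ K, x ≠ 1 → ∀ y ∈ (Cfsg.sigmaCore M ⊓ Subgroup.centralizer (K : Set G)), y ≠ 1 →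
        M ⊓ Subgroup.centralizer ({x} : Set G) = K ⊔ (Cfsg.sigmaCore M ⊓ Subgroup.centralizer (K : Set G)) ∧ Mstar ⊓ Subgroup.centralizer ({y} : Set G) = K ⊔ (Cfsg.sigmaCore M ⊓ Subgroup.centralizer (K : Set G)) ∧
        Subgroup.centralizer ({x * y} : Set G) = K ⊔ (Cfsg.sigmaCore M ⊓ Subgroup.centralizer (K : Set G))) ∧
      (∀ g : G, g ∉ M → ∀ z ∈ ((↑(K ⊔ (Cfsg.sigmaCore M ⊓ Subgroup.centralizer (K : Set G))) : Set G) \ ((K : Set G) ∪ ↑(Cfsg.sigmaCore M ⊓ Subgroup.centralizer (K : Set G)))), z ∉ M.map (MulAut.conj g).toMonoidHom) ∧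
      Nat.card K * Nat.card ↥(Cfsg.sigmaCore M ⊓ Subgroup.centralizer (K : Set G)) * Set.ncard {a : G | ∃ g : G, ∃ z ∈ ((↑(K ⊔ (Cfsg.sigmaCore M ⊓ Subgroup.centralizer (K : Set G))) : Set G) \ ((K : Set G) ∪ ↑(Cfsg.sigmaCore M ⊓ Subgroup.centralizer (K : Set G)))), a = g * z * g⁻¹} =
        (Nat.card K * Nat.card ↥(Cfsg.sigmaCore M ⊓ Subgroup.centralizer (K : Set G)) - Nat.card K - Nat.card ↥(Cfsg.sigmaCore M ⊓ Subgroup.centralizer (K : Set G)) + 1) * Nat.card G ∧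
      Nat.card G < 2 * Set.ncard {a : G | ∃ g : G, ∃ z ∈ ((↑(K ⊔ (Cfsg.sigmaCore M ⊓ Subgroup.centralizer (K : Set G))) : Set G) \ ((K : Set G) ∪ ↑(Cfsg.sigmaCore M ⊓ Subgroup.centralizer (K : Set G)))), a = g * z * g⁻¹} := by
  have h : SetP M K U Mstar := ⟨hM, hKU, hK1, hMstar, hKst, hKstH⟩
  refine ⟨h.kappa_eq_tau1 hG, h.hall_sigma hG h30 h31, ?_, ?_, ?_, ?_⟩
  · intro x hx hx1 y hy hy1
    exact h.centralizers hG h30 h31 hT hx hx1 hy hy1
  · intro g hg z hz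
    exact h.Zhat_not_mem_cj hG h31 hg hz
  · have hc := card_ZhatG hG h31 hM h.hK hK1
    have hk3 := three_le_card hG hK1
    have hl3 := three_le_card hG (h.Kst1 h30)
    rw [card_identity (by omega) (by omega)] at hc
    exact hc
  · exact density_ZhatG hG h30 h31 hM h.hK hK1

end Cfsg.Agent.H2.BG14
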