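import Mathlib
import Cfsg.Agent.H2.BG14.H
import Cfsg.Agent.H1.BG14E
import Cfsg.Agent.H1.BG14B
import Cfsg.Agent.Lib.Helper4.BG14L
import Cfsg.Agent.Lib.Helper5.BG1218F3

/-!
# B&G Section 14 (helper2), part I: Theorem 14.8 (S1379), the covering of `G^#` by the `Ñ` and the
conjugates of `Ẑ`
-/

set_option autoImplicit false
set_option linter.unusedVariables false
set_option linter.unusedSectionVars false
set_option linter.style.haveILetI false
set_option maxHeartbeats 1000000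

open scoped commutatorElement Pointwise

namespace Cfsg.Agent.H2.BG14

open Cfsg Cfsg.Agent.Lib.Helper8.BGTen Cfsg.Agent.H2.BG11

universe u

variable {G : Type u} [Group G] [Finite G]

/-- `κ` is invariant under conjugation (one direction) -/
theorem kappa_of_cj (hG : Cfsg.IsMinSimpleOddOrder G) {L : Subgroup G} (hL : IsCoatom L) {g : G}
    {p : ℕ} (h : p ∈ Cfsg.kappa (cj g L)) : p ∈ Cfsg.kappa L := by
  have hp : p.Prime := h.1
  haveI : Fact p.Prime := ⟨hp⟩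
  have hLg : IsCoatom (cj g L) := isCoatom_cj hL g
  obtain ⟨hr, -⟩ := Cfsg.Agent.H1.BG14.tau13_of_mem_kappa hG hLg h
  have hr' : Cfsg.PRankLE p 1 ↥L :=
    Cfsg.Agent.Lib.Helper5.BG1218F.pRankLE_of_inj ((MulAut.conj g).toMonoidHom.subgroupMap L)
      (fun a b hab => Subtype.ext ((MulAut.conj g).injective (congrArg Subtype.val hab))) hr
  have hσ : p ∉ Cfsg.sigma L := by
    have := h.2.2.1
    rwa [Cfsg.Agent.H2.BG11.sigma_cj] at this
  have hpd : p ∣ Nat.card ↥(cj g L) := h.2.1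
  obtain ⟨t, ht⟩ := exists_prime_orderOf_dvd_card' p hpd
  have ht' : orderOf (t : G) = p := by rw [Subgroup.orderOf_coe, ht]
  have hT : Subgroup.zpowers (t : G) ≤ cj g L := by
    rw [Subgroup.zpowers_le]; exact t.2
  have hTc : Nat.card ↥(Subgroup.zpowers (t : G)) = p := by rw [Nat.card_zpowers, ht']
  have hD := Cfsg.Agent.Lib.Helper4.BG14.kappa_fixed h hT hTc
  obtain ⟨y, hy, hy1⟩ := Cfsg.Agent.Lib.Helper4.BG14.exists_ne_one_of_ne_bot hD
  rw [sigmaCore_cj hG hL g] at hy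
  have hy₀ : g⁻¹ * y * g ∈ Cfsg.sigmaCore L := mem_cj.mp (Subgroup.mem_inf.mp hy).1
  have ht₀ : g⁻¹ * (t : G) * g ∈ L := mem_cj.mp t.2
  have hyt : (t : G) * y = y * (t : G) := by
    have h2 : y ∈ Subgroup.centralizer ((Subgroup.zpowers (t : G) : Subgroup G) : Set G) :=
      (Subgroup.mem_inf.mp hy).2
    rw [Subgroup.mem_centralizer_iff] at h2
    exact h2 _ (Subgroup.mem_zpowers _)
  refine Cfsg.Agent.Lib.Helper4.BG14.mem_kappa_of_fixed hG hσ hr'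
    (T := Subgroup.zpowers (g⁻¹ * (t : G) * g)) ?_ ?_ ?_
  · rw [Subgroup.zpowers_le]; exact ht₀
  · rw [Nat.card_zpowers]
    have : g⁻¹ * (t : G) * g = g⁻¹ * (t : G) * g⁻¹⁻¹ := by rw [inv_inv]
    rw [this, orderOf_conj_elt, ht']
  · intro h0
    have hmem : g⁻¹ * y * g ∈ Cfsg.sigmaCore L ⊓
        Subgroup.centralizer ((Subgroup.zpowers (g⁻¹ * (t : G) * g) : Subgroup G) : Set G) := by
      refine Subgroup.mem_inf.mpr ⟨hy₀, ?_⟩
      rw [Subgroup.mem_centralizer_iff]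
      intro z hz
      obtain ⟨k, rfl⟩ := Subgroup.mem_zpowers_iff.mp hz
      have hc : Commute (g⁻¹ * (t : G) * g) (g⁻¹ * y * g) := by
        show g⁻¹ * (t : G) * g * (g⁻¹ * y * g) = g⁻¹ * y * g * (g⁻¹ * (t : G) * g)
        calc g⁻¹ * (t : G) * g * (g⁻¹ * y * g) = g⁻¹ * ((t : G) * y) * g := by group
          _ = g⁻¹ * (y * (t : G)) * g := by rw [hyt]
          _ = g⁻¹ * y * g * (g⁻¹ * (t : G) * g) := by group
      exact (hc.zpow_left k).eq
    rw [h0, Subgroup.mem_bot] at hmem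
    apply hy1
    have : y = g * (g⁻¹ * y * g) * g⁻¹ := by group
    rw [this, hmem]; group

/-- `κ(gMg⁻¹) = κ(M)` -/
theorem kappa_cj (hG : Cfsg.IsMinSimpleOddOrder G) {L : Subgroup G} (hL : IsCoatom L) (g : G) :
    Cfsg.kappa (cj g L) = Cfsg.kappa L := by
  ext p
  constructor
  · exact kappa_of_cj hG hL
  · intro h
    have h' : p ∈ Cfsg.kappa (cj g⁻¹ (cj g L)) := by rwa [cj_inv_cj]
    exact kappa_of_cj hG (isCoatom_cj hL g) h'

omit [Finite G] in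
theorem centralizer_cj' (g : G) (K : Subgroup G) :
    Subgroup.centralizer ((cj g K : Subgroup G) : Set G) =
      cj g (Subgroup.centralizer (K : Set G)) := by
  ext z
  rw [mem_cj, Subgroup.mem_centralizer_iff, Subgroup.mem_centralizer_iff]
  constructor
  · intro h k hk
    have h1 := h (g * k * g⁻¹) (conj_mem_cj hk)
    calc k * (g⁻¹ * z * g) = g⁻¹ * (g * k * g⁻¹ * z) * g := by group
      _ = g⁻¹ * (z * (g * k * g⁻¹)) * g := by rw [h1]
      _ = g⁻¹ * z * g * k := by group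
  · intro h k hk
    have hk' : g⁻¹ * k * g ∈ K := mem_cj.mp hk
    have h1 := h _ hk'
    calc k * z = g * (g⁻¹ * k * g * (g⁻¹ * z * g)) * g⁻¹ := by group
      _ = g * (g⁻¹ * z * g * (g⁻¹ * k * g)) * g⁻¹ := by rw [h1]
      _ = z * k := by group

/-- `K*` is conjugation-equivariant -/
theorem Ks_cj (hG : Cfsg.IsMinSimpleOddOrder G) {M : Subgroup G} (hM : IsCoatom M) (g : G)
    (K : Subgroup G) : Ks (cj g M) (cj g K) = cj g (Ks M K) := by
  show Cfsg.sigmaCore (cj g M) ⊓ Subgroup.centralizer ((cj g K : Subgroup G) : Set G) =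
    cj g (Cfsg.sigmaCore M ⊓ Subgroup.centralizer (K : Set G))
  rw [sigmaCore_cj hG hM g, centralizer_cj', cj_inf]

/-- `Ẑ` is conjugation-equivariant -/
theorem conj_mem_Zhat (hG : Cfsg.IsMinSimpleOddOrder G) {M : Subgroup G} (hM : IsCoatom M) (g : G)
    {K : Subgroup G} {z : G} (hz : z ∈ Zhat M K) : g * z * g⁻¹ ∈ Zhat (cj g M) (cj g K) := by
  obtain ⟨h1, h2⟩ := hz
  have e : g⁻¹ * (g * z * g⁻¹) * g = z := by group
  refine ⟨?_, ?_⟩
  · show g * z * g⁻¹ ∈ cj g K ⊔ Ks (cj g M) (cj g K)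
    rw [Ks_cj hG hM, cj, cj, ← Subgroup.map_sup]
    exact conj_mem_cj h1
  · rintro (h | h)
    · apply h2
      left
      have := mem_cj.mp h
      rwa [e] at this
    · apply h2
      right
      have h' : g * z * g⁻¹ ∈ Ks (cj g M) (cj g K) := h
      rw [Ks_cj hG hM] at h'
      have := mem_cj.mp h'
      rwa [e] at this

/-- `Ẑ(M*, K*) = Ẑ(M, K)` -/
theorem SetP.Zhat_swap {M K U Mstar : Subgroup G} (h : SetP M K U Mstar) :
    Zhat Mstar (Ks M K) = Zhat M K := by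
  show (↑(Ks M K ⊔ Ks Mstar (Ks M K)) : Set G) \ (↑(Ks M K) ∪ ↑(Ks Mstar (Ks M K))) =
    (↑(K ⊔ Ks M K) : Set G) \ (↑K ∪ ↑(Ks M K))
  rw [h.Ks_Ks, sup_comm, Set.union_comm]

/-- all `Ẑ(H, K')`, `K'` a Hall `κ(H)`-subgroup of a conjugate `H` of `M`, are conjugate -/
theorem exists_conj_Zhat_of_hall (hG : Cfsg.IsMinSimpleOddOrder G) {M K H K' : Subgroup G}
    (hM : IsCoatom M) (hK : Cfsg.IsPiHallOf (Cfsg.kappa M) K M) {g : G} (hH : H = cj g M)
    (hK' : Cfsg.IsPiHallOf (Cfsg.kappa H) K' H) {z : G} (hz : z ∈ Zhat H K') :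
    ∃ t : G, ∃ z0 ∈ Zhat M K, z = t * z0 * t⁻¹ := by
  subst hH
  have hHc : IsCoatom (cj g M) := isCoatom_cj hM g
  have hsolv : Group.IsSolvable ↥(cj g M) := hG.2.2.2 _ hHc.1
  have hK₁ : Cfsg.IsPiHallOf (Cfsg.kappa (cj g M)) (cj g K) (cj g M) := by
    rw [kappa_cj hG hM]
    exact Cfsg.Agent.H2.BG13.isPiHallOf_cj hK g
  obtain ⟨c, hc, hcK⟩ := Cfsg.Agent.H1.isPiHallOf_conj _ _ _ _ hsolv hK₁ hK'
  have hcK' : K' = cj c (cj g K) := hcK
  have hcM : cj c (cj g M) = cj g M := by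
    ext w
    rw [mem_cj]
    constructor
    · intro hw
      have : w = c * (c⁻¹ * w * c) * c⁻¹ := by group
      rw [this]
      exact Subgroup.mul_mem _ (Subgroup.mul_mem _ hc hw) (Subgroup.inv_mem _ hc)
    · intro hw
      exact Subgroup.mul_mem _ (Subgroup.mul_mem _ (Subgroup.inv_mem _ hc) hw) hc
  -- conjugate back
  have h1 : (c * g)⁻¹ * z * (c * g)⁻¹⁻¹ ∈ Zhat (cj (c * g)⁻¹ (cj g M)) (cj (c * g)⁻¹ K') :=
    conj_mem_Zhat hG hHc _ hz
  have e1 : cj (c * g)⁻¹ (cj g M) = M := by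
    conv_lhs => rw [← hcM]
    rw [← cj_mul c g, cj_inv_cj]
  have e2 : cj (c * g)⁻¹ K' = K := by
    rw [hcK', ← cj_mul c g, cj_inv_cj]
  rw [e1, e2] at h1
  refine ⟨c * g, _, h1, ?_⟩
  group

/-- the partner of `M` exists (helper4's `exists_partner`), in the form of `SetP` -/
theorem exists_setP (hG : Cfsg.IsMinSimpleOddOrder G) {M K U : Subgroup G} (hM : IsCoatom M)
    (hKU : Cfsg.IsSigmaDecomposition M K U) (hK1 : K ≠ ⊥) : ∃ Mstar : Subgroup G, SetP M K U Mstar := by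
  obtain ⟨L, hL, hKL, hm1, hKeq⟩ := Cfsg.Agent.Lib.Helper4.BG14.exists_partner hG hM hKU.hall hK1
  exact ⟨L, hM, hKU, hK1, hL, hKeq, hm1.hall⟩

/-- **B&G 14.8, the covering part**: every `g ≠ 1` lies in some `Ñ` or in a conjugate of `Ẑ` -/
theorem SetP.cover (hG : Cfsg.IsMinSimpleOddOrder G) {M K U Mstar : Subgroup G}
    (h : SetP M K U Mstar) (g : G) (hg : g ≠ 1) :
    (∃ N : Subgroup G, IsCoatom N ∧ g ∈ Cfsg.tildeOf N ((Cfsg.sigmaCore N : Set G) \ {1})) ∨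
      ∃ y : G, ∃ z ∈ Zhat M K, g = y * z * y⁻¹ := by
  have h30 := hyp1430 hG
  have h31 := hyp1431 hG
  rcases Cfsg.Agent.H1.BG14.tilde_or_kappa' hG g hg with hL | ⟨H, hH, c, x, x', hc, hx, hx1, hx', hx'1,
    hcomm, hκ, -⟩
  · exact Or.inl hL
  right
  have hsolv : Group.IsSolvable ↥H := hG.2.2.2 H hH.1
  -- a Hall `κ(H)`-subgroup containing `x'`
  obtain ⟨K', hK', -, hxK'⟩ := Cfsg.Agent.H1.coprime_hall_contain (⊥ : Subgroup G) H
    (Subgroup.zpowers x') (Cfsg.kappa H) bot_le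
    (by rw [Subgroup.card_bot]; exact Nat.coprime_one_left _) hsolv
    (by rw [Subgroup.zpowers_le]; exact hx') bot_le (fun p hp hd => by
      rw [Nat.card_zpowers] at hd
      exact hκ p hp hd)
  have hx'K : x' ∈ K' := hxK' (Subgroup.mem_zpowers x')
  have hK'1 : K' ≠ ⊥ := by
    intro h0
    rw [h0, Subgroup.mem_bot] at hx'K
    exact hx'1 hx'K
  have hxKs : x ∈ Ks H K' := by
    show x ∈ Cfsg.sigmaCore H ⊓ Subgroup.centralizer (K' : Set G)
    rw [← (h30 H hH K' hK' hK'1).1 x' hx'K hx'1]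
    refine Subgroup.mem_inf.mpr ⟨hx, ?_⟩
    rw [Subgroup.mem_centralizer_singleton_iff]
    exact hcomm
  have hz : x' * x ∈ Zhat H K' :=
    (mem_Zhat_iff hG hH hK').mpr ⟨x', hx'K, hx'1, x, hxKs, hx1, rfl⟩
  -- `κ(H) ≠ ∅`
  have hκne : (Cfsg.kappa H).Nonempty := by
    have ho : orderOf x' ≠ 1 := fun h1 => hx'1 (orderOf_eq_one_iff.mp h1)
    obtain ⟨p, hp, hpd⟩ := Nat.exists_prime_and_dvd ho
    exact ⟨p, hκ p hp hpd⟩
  have key : ∃ t : G, ∃ z0 ∈ Zhat M K, x' * x = t * z0 * t⁻¹ := by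
    obtain ⟨g₁, hg₁ | hg₁⟩ := h.conj_of_kappa_nonempty hG h30 h31 hH hκne
    · exact exists_conj_Zhat_of_hall hG h.hM h.hK hg₁ hK' hz
    · obtain ⟨t, z0, hz0, e⟩ := exists_conj_Zhat_of_hall hG h.hMs h.hKstH hg₁ hK' hz
      rw [h.Zhat_swap] at hz0
      exact ⟨t, z0, hz0, e⟩
  obtain ⟨t, z0, hz0, e⟩ := key
  refine ⟨c⁻¹ * t, z0, hz0, ?_⟩
  have e1 : g = c⁻¹ * (x * x') * c := by rw [← hc]; group
  rw [e1, hcomm, e]
  group

/-- **S1379** -/
theorem s1379 (hG : Cfsg.IsMinSimpleOddOrder G) :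
    (∀ M N : Subgroup G, IsCoatom M → IsCoatom N → (∀ g : G, N ≠ M.map (MulAut.conj g).toMonoidHom) → Cfsg.tildeOf M ((Cfsg.sigmaCore M : Set G) \ {1}) ∩ Cfsg.tildeOf N ((Cfsg.sigmaCore N : Set G) \ {1}) = ∅) ∧
      ((∀ M : Subgroup G, IsCoatom M → Cfsg.kappa M = ∅) →
        ∀ g : G, g ≠ 1 → ∃ M : Subgroup G, IsCoatom M ∧ g ∈ Cfsg.tildeOf M ((Cfsg.sigmaCore M : Set G) \ {1})) ∧
      ∀ (M K U : Subgroup G), IsCoatom M → Cfsg.IsSigmaDecomposition M K U → K ≠ ⊥ →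
        (∀ g : G, g ≠ 1 → (∃ N : Subgroup G, IsCoatom N ∧ g ∈ Cfsg.tildeOf N ((Cfsg.sigmaCore N : Set G) \ {1})) ∨
            ∃ y : G, ∃ z ∈ ((↑(K ⊔ (Cfsg.sigmaCore M ⊓ Subgroup.centralizer (K : Set G))) : Set G) \ ((K : Set G) ∪ ↑(Cfsg.sigmaCore M ⊓ Subgroup.centralizer (K : Set G)))), g = y * z * y⁻¹) ∧
        ∀ N : Subgroup G, IsCoatom N → ∀ y : G, ∀ z ∈ ((↑(K ⊔ (Cfsg.sigmaCore M ⊓ Subgroup.centralizer (K : Set G))) : Set G) \ ((K : Set G) ∪ ↑(Cfsg.sigmaCore M ⊓ Subgroup.centralizer (K : Set G)))), y * z * y⁻¹ ∉ Cfsg.tildeOf N ((Cfsg.sigmaCore N : Set G) \ {1}) := by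
  refine ⟨fun M N hM hN hnc => tilde_disjoint hG hM hN hnc,
    fun hκ g hg => Cfsg.Agent.H1.BG14.cover_of_kappa_empty hG hκ g hg, ?_⟩
  intro M K U hM hKU hK1
  obtain ⟨Mstar, h⟩ := exists_setP hG hM hKU hK1
  refine ⟨fun g hg => h.cover hG g hg, ?_⟩
  intro N hN y z hz
  exact conj_Zhat_not_mem_tilde' hG hM hKU.hall hK1 hN y hz

end Cfsg.Agent.H2.BG14
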